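import Cfsg.Agent.Lib.KnownB.TypeM23.Cent
import Cfsg.Agent.Lib.KnownB.TypeM22.Order

/-!
The centralisers of a member and of two commuting members, the order and the width of a group of type M(23).
-/

set_option autoImplicit false

namespace CfsgLib.KnownB.TypeM23

open Cfsg CfsgLib.Classical.Unitary CfsgLib.ThreeTransp CfsgLib.Involutions
open CfsgLib.KnownB.TypeM22

open scoped commutatorElement

universe u

variable {G : Type u} [Group G] [Finite G] {D : Set G} {d b : G}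

/-- The point data of two commuting members. -/
theorem Setting23.exists_pair_map (S : Setting23 D) (hd : d ∈ D) (hb : b ∈ nb D d) :
    ∃ (F : Type) (_ : Field F) (_ : Finite F) (σ : F →+* F) (hF : Nat.card F = 2 ^ 2) (h : UFrob σ 2)
      (f : Subgroup.closure (nb (Dq D d) (qd D d b)) →* PSU 6 F 2),
      Maps hF h (Dq D d) ∧ PMap hF h (Dq D d) (qd D d b) f := by
  obtain ⟨F, iF, iFin, σ, hF, h, hP⟩ := (S.quot hd).exists_pmap
  obtain ⟨f, P⟩ := hP _ (qd_mem hb)
  exact ⟨F, iF, iFin, σ, hF, h, f, hP, P⟩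

/-- The common partners are conjugate under the group they generate. -/
theorem Setting23.pair_orb (S : Setting23 D) (hd : d ∈ D) (hb : b ∈ nb D d) {y z : G} (hy : y ∈ pnb D d b)
    (hz : z ∈ pnb D d b) : ∃ x ∈ Subgroup.closure (pnb D d b), x * y * x⁻¹ = z := by
  obtain ⟨k, hk, hkz⟩ := (S.quot hd).cls.orb_nb (S.quot hd).prim (qd_mem hb)
    ((S.pair_mem hd hb hy.1).2 hy) ((S.pair_mem hd hb hz.1).2 hz)
  obtain ⟨x, hx, rfl⟩ := pair_closure S hd hb hk
  refine ⟨x, hx, S.qd_inj hd (TypeM22.conj_nb S.weak (pnb_commute hx).1 hy.1) hz.1 ?_⟩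
  rw [qd_conj (pnb_le hx) (mem_H hy.1), hkz]

/-- Even products of common partners lie in the derived group; both members are such products. -/
theorem Setting23.pair_derived (S : Setting23 D) (hd : d ∈ D) (hb : b ∈ nb D d) :
    d ∈ ⁅Subgroup.closure (pnb D d b), Subgroup.closure (pnb D d b)⁆ ∧
      b ∈ ⁅Subgroup.closure (pnb D d b), Subgroup.closure (pnb D d b)⁆ := by
  obtain ⟨F, _, _, σ, hF, h, f, hP, P⟩ := S.exists_pair_map hd hb
  obtain ⟨e⟩ := exists_coord hF
  obtain ⟨r, s, H⟩ := exists_frame hF h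
  obtain ⟨hω, hω3, hσω⟩ := code_omega hF h e
  obtain ⟨hn0, hn1, hn2, hn3⟩ := omega_ne hF hω
  have hW := S.weak
  obtain ⟨y, yi, yc, py, y1, yL⟩ := six_lifts S hd hb hP P H hω hω3 hσω (θ := 1) one_ne_zero
  obtain ⟨y', yi', yc', py', y1', yL'⟩ := six_lifts S hd hb hP P H hω hω3 hσω (θ := e ⟨2⟩) hn0
  have hpair : ∀ {u v : G}, u ∈ pnb D d b → v ∈ pnb D d b →
      u * v ∈ ⁅Subgroup.closure (pnb D d b), Subgroup.closure (pnb D d b)⁆ := fun {u v} hu hv => by
    obtain ⟨x, hx, hxv⟩ := S.pair_orb hd hb hu hv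
    have h1 : u * v = ⁅u, x⁆ := by rw [commutatorElement_def, ← hxv, hW.inv hu.1.1]; group
    rw [h1]
    exact Subgroup.commutator_mem_commutator (Subgroup.subset_closure hu) hx
  have hsix : ∀ {y : Fin 6 → G}, (∀ i, y i ∈ pnb D d b) →
      y 0 * (y 1 * (y 2 * (y 3 * (y 4 * y 5)))) ∈
        ⁅Subgroup.closure (pnb D d b), Subgroup.closure (pnb D d b)⁆ := fun {y} hy => by
    have := mul_mem (hpair (hy 0) (hy 1)) (mul_mem (hpair (hy 2) (hy 3)) (hpair (hy 4) (hy 5)))
    simpa only [mul_assoc] using this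
  have m1 := hsix fun i => (py i).mem S hd hb
  have m2 := hsix fun i => (py' i).mem S hd hb
  have hdiff : y 0 * (y 1 * (y 2 * (y 3 * (y 4 * y 5)))) ≠ y' 0 * (y' 1 * (y' 2 * (y' 3 * (y' 4 * y' 5)))) := by
    intro e0
    have hs : ∀ i : Fin 6, (i : ℕ) < 3 → y i = y' i := fun i hi =>
      (py i).unique S hd P ((py' i).congr (congrArg (cvec r) (by fin_cases i <;> simp_all [hexC])))
    rw [hs 0 (by decide), hs 1 (by decide), hs 2 (by decide)] at e0
    have e1 := mul_left_cancel (mul_left_cancel (mul_left_cancel e0))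
    have hDy : ∀ i, y i ∈ D := fun i => (py i).1.1
    have hDy' : ∀ i, y' i ∈ D := fun i => (py' i).1.1
    have h3 := (S.cls.product_unique S.prim S.partners (m := 3) le_rfl (j := y 3 * (y 4 * y 5))
      (l := [y' 3, y' 4, y' 5]) (l' := [y 3, y 4, y 5])
      ⟨by simp [yi'.eq_iff], rfl, by simp [hDy'], by simp [yc'], by simp [e1]⟩
      ⟨by simp [yi.eq_iff], rfl, by simp [hDy], by simp [yc], by simp⟩ (y' 3)).1 (by simp)
    obtain ⟨i, hi⟩ : ∃ i : Fin 6, y' 3 = y i := by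
      simp only [List.mem_cons, List.not_mem_nil, or_false] at h3
      rcases h3 with r0 | r0 | r0 <;> exact ⟨_, r0⟩
    obtain ⟨a, ha⟩ := (py' 3).eq_smul (hi ▸ py i) fun e2 => by
      have := cvec_coord H (hexC (e ⟨2⟩) (e ⟨2⟩) 3) 0
      rw [e2, uh_zero_left] at this
      simp [hexC] at this
    exact hexC_new hn1 hn2 i a fun k => by
      rw [← cvec_coord H (hexC (e ⟨2⟩) (e ⟨2⟩) 3) k, ha, uh_smul_left, cvec_coord H]
  have hdd := hW.sq d hd
  have hbb := hW.sq b hb.1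
  have hbd : b * d = d * b := hb.2.2.eq.symm
  rcases yL with r1 | r1 | r1 <;> rcases yL' with r2 | r2 | r2 <;> rw [r1] at m1 hdiff <;> rw [r2] at m2 hdiff <;>
    first
    | exact absurd rfl hdiff
    | exact ⟨m1, m2⟩
    | exact ⟨m2, m1⟩
    | exact ⟨m1, by have := mul_mem m1 m2; rwa [← mul_assoc, hdd, one_mul] at this⟩
    | exact ⟨m2, by have := mul_mem m2 m1; rwa [← mul_assoc, hdd, one_mul] at this⟩
    | exact ⟨by have := mul_mem m2 m1; rwa [mul_assoc, hbb, mul_one] at this, m1⟩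
    | exact ⟨by have := mul_mem m1 m2; rwa [mul_assoc, hbb, mul_one] at this, m2⟩

theorem Setting23.pair_self (S : Setting23 D) (hd : d ∈ D) (hb : b ∈ nb D d) :
    d ∈ Subgroup.closure (pnb D d b) ∧ b ∈ Subgroup.closure (pnb D d b) := by
  have hle : ⁅Subgroup.closure (pnb D d b), Subgroup.closure (pnb D d b)⁆ ≤ Subgroup.closure (pnb D d b) :=
    Subgroup.commutator_le_self _
  exact ⟨hle (S.pair_derived hd hb).1, hle (S.pair_derived hd hb).2⟩

/-- The joint centraliser of two commuting members is generated by their common partners. -/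
theorem Setting23.cent_pair (S : Setting23 D) (hd : d ∈ D) (hb : b ∈ nb D d) {g : G} (hgd : Commute g d)
    (hgb : Commute g b) : g ∈ Subgroup.closure (pnb D d b) := by
  obtain ⟨F, _, _, σ, hF, h, f, hP, P⟩ := S.exists_pair_map hd hb
  obtain ⟨k, hk, ⟨hxd, hxb⟩, hfix⟩ := fix_pair S hd hb hP P hgd hgb
  obtain ⟨x, hxdef⟩ : ∃ x, x = k * g := ⟨_, rfl⟩
  rw [← hxdef] at hxd hxb hfix
  suffices hx : x = 1 ∨ x = d ∨ x = b ∨ x = b * d by
    obtain ⟨h1, h2⟩ := S.pair_self hd hb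
    have hxK : x ∈ Subgroup.closure (pnb D d b) := by
      rcases hx with r | r | r | r <;> rw [r]
      exacts [one_mem _, h1, h2, mul_mem h2 h1]
    have := mul_mem (inv_mem hk) hxK
    rwa [hxdef, inv_mul_cancel_left] at this
  have hW := S.weak
  have hS : MulAut.conj x '' nb D d = nb D d := by
    ext z
    constructor
    · rintro ⟨y, hy, rfl⟩; exact TypeM22.conj_nb hW hxd hy
    · intro hz
      refine ⟨x⁻¹ * z * x, ?_, by simp [mul_assoc]⟩
      have := TypeM22.conj_nb hW hxd.inv_left hz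
      rwa [inv_inv] at this
  obtain ⟨φ, hφ⟩ : ∃ φ : Qd D d ≃* Qd D d, ∀ y ∈ Subgroup.closure (nb D d), φ (qd D d y) = qd D d (x * y * x⁻¹) :=
    ⟨CfsgLib.Spor.FischerTypes.quotCongr (MulAut.conj x) hS, fun y hy => by
      rw [show qd D d y = _ from qd_mk ⟨y, hy⟩]
      exact (qd_mk _).symm⟩
  have hb' : φ (qd D d b) = qd D d b := by rw [hφ b (mem_H hb), conj_eq_of_commute hxb]
  obtain hc | hc := auto_cases (S.quot hd).weak (lineProp_m22 (S.quot hd) hP) (qd_mem hb) φ
    (fun z hz => by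
      obtain ⟨y, hy, rfl⟩ := dq_exists hz
      rw [hφ y (mem_H hy)]
      exact qd_mem (TypeM22.conj_nb hW hxd hy)) hb'
    (fun z hz => by
      obtain ⟨y, hy, rfl⟩ := S.pair_lift hd hb hz
      rw [hφ y (mem_H hy.1), conj_eq_of_commute (hfix y hy)])
  · rcases eq_one_or hW S.center S.lineProp hd hxd (fun y hy => mul_inv_eq_iff_eq_mul.1
      (S.qd_inj hd (TypeM22.conj_nb hW hxd hy) hy (by rw [← hφ y (mem_H hy), hc]))) with r | r
    · exact Or.inl r
    · exact Or.inr (Or.inl r)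
  · have hy' : ∀ y ∈ nb D d, x * y * x⁻¹ = b * y * b⁻¹ := fun y hy =>
      S.qd_inj hd (TypeM22.conj_nb hW hxd hy) (TypeM22.conj_nb hW hb.2.2.symm hy) (by
        rw [← hφ y (mem_H hy), hc, qd_conj (mem_H hb) (mem_H hy), (S.quot hd).weak.inv (qd_mem hb)])
    rcases eq_one_or hW S.center S.lineProp hd (hb.2.2.symm.mul_left hxd : Commute (b * x) d) (fun y hy =>
      mul_inv_eq_iff_eq_mul.1 (show b * x * y * (b * x)⁻¹ = y by
        rw [show b * x * y * (b * x)⁻¹ = b * (x * y * x⁻¹) * b⁻¹ by group, hy' y hy, hW.inv hb.1,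
          hW.conj_self hb.1 y])) with r | r
    · exact Or.inr (Or.inr (Or.inl (by rw [mul_eq_one_iff_inv_eq, hW.inv hb.1] at r; exact r.symm)))
    · refine Or.inr (Or.inr (Or.inr ?_))
      calc x = b * (b * x) := by rw [← mul_assoc, hW.sq b hb.1, one_mul]
        _ = b * d := by rw [r]

theorem Setting23.centralizer_pair (S : Setting23 D) (hd : d ∈ D) (hb : b ∈ nb D d) :
    Subgroup.centralizer ({d, b} : Set G) = Subgroup.closure (pnb D d b) := by
  refine le_antisymm (fun g hg => ?_) ((Subgroup.closure_le _).2 fun y hy => ?_)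
  · exact S.cent_pair hd hb (Subgroup.mem_centralizer_iff.1 hg d (by simp)).symm
      (Subgroup.mem_centralizer_iff.1 hg b (by simp)).symm
  · refine Subgroup.mem_centralizer_iff.2 ?_
    rintro z (rfl | rfl)
    exacts [hy.1.2.2.eq, hy.2.2.2.eq]

/-- The partners of a member generate its centraliser. -/
theorem Setting23.centralizer_eq (S : Setting23 D) (hd : d ∈ D) :
    Subgroup.closure (nb D d) = Subgroup.centralizer ({d} : Set G) := by
  refine le_antisymm (closure_nb_le D d) fun g hg => ?_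
  have hgd : Commute g d := Subgroup.mem_centralizer_singleton_iff.1 hg
  obtain ⟨a, ha, -⟩ := (S.quot hd).exists_pair
  obtain ⟨b, hb, -⟩ := dq_exists ha
  obtain ⟨k, hk, hke⟩ := S.cls.orb_nb S.prim hd (TypeM22.conj_nb S.weak hgd hb) hb
  have h1 := S.cent_pair hd hb ((commute_closure_nb hk).mul_left hgd) (mul_inv_eq_iff_eq_mul.1 (by
    rw [show k * g * b * (k * g)⁻¹ = k * (g * b * g⁻¹) * k⁻¹ by group, hke]))
  have := mul_mem (inv_mem hk) (pnb_le h1)
  rwa [inv_mul_cancel_left] at this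

theorem Setting23.card_closure (S : Setting23 D) (hd : d ∈ D) :
    Nat.card (Subgroup.closure (nb D d)) = 2 * (2 ^ 17 * 3 ^ 9 * 5 ^ 2 * 7 * 11 * 13) := by
  obtain ⟨F, _, _, σ, hF, h, hP⟩ := (S.quot hd).exists_pmap
  have hne : d ≠ 1 := fun e => by
    obtain ⟨c, hc, hn⟩ := S.cls.exists_noncommute hd
    exact hn (e ▸ Commute.one_right c)
  rw [Subgroup.card_eq_card_quotient_mul_card_subgroup (Subgroup.center (Subgroup.closure (nb D d))),
    show Nat.card (↥(Subgroup.closure (nb D d)) ⧸ Subgroup.center ↥(Subgroup.closure (nb D d))) = _ from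
      (S.quot hd).card_group hP,
    S.center_eq hd, Nat.card_congr (Subgroup.subgroupOfEquivOfLe (Subgroup.zpowers_le.2 (S.self_mem hd))).toEquiv,
    Nat.card_zpowers, orderOf_eq_prime (by rw [pow_two, S.weak.sq d hd]) hne, mul_comm]

/-- The order of a group of type M(23). -/
theorem Setting23.card_group (S : Setting23 D) :
    Nat.card G = 2 ^ 18 * 3 ^ 13 * 5 ^ 2 * 7 * 11 * 13 * 17 * 23 := by
  obtain ⟨d, hd, -⟩ := S.exists_pair
  have horb : MulAction.orbit (ConjAct G) d = D := by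
    ext x
    simp only [MulAction.mem_orbit_iff, ConjAct.smul_def]
    constructor
    · rintro ⟨g, rfl⟩; exact S.cls.conj _ d hd
    · intro hx
      obtain ⟨g, hg⟩ := S.cls.trans d hd x hx
      exact ⟨ConjAct.toConjAct g, by simpa using hg⟩
  have h1 := Nat.card_congr (MulAction.orbitProdStabilizerEquivGroup (ConjAct G) d)
  rw [Nat.card_prod, horb, Nat.card_coe_set_eq, S.counts.1,
    Nat.card_congr (Equiv.subtypeEquiv (q := fun x => x ∈ Subgroup.centralizer ({d} : Set G))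
      ConjAct.ofConjAct.toEquiv fun g => by
        rw [MulAction.mem_stabilizer_iff, ConjAct.smul_def, Subgroup.mem_centralizer_singleton_iff,
          mul_inv_eq_iff_eq_mul]; rfl), Nat.card_congr ConjAct.toConjAct.symm.toEquiv] at h1
  rw [← h1, show Nat.card ↥(Subgroup.centralizer ({d} : Set G)) = 2 * (2 ^ 17 * 3 ^ 9 * 5 ^ 2 * 7 * 11 * 13) from
    S.centralizer_eq hd ▸ S.card_closure hd]
  norm_num

/-- The width of a group of type M(23). -/
theorem Setting23.width (S : Setting23 D) : commutingWidth D = 23 := by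
  have hbdd : ∀ {H : Type u} [Group H] [Finite H] (E : Set H),
      BddAbove {n : ℕ | ∃ T : Set H, T ⊆ E ∧ T.Finite ∧ (∀ a ∈ T, ∀ c ∈ T, Commute a c) ∧ T.ncard = n} :=
    fun {H} _ _ E => ⟨Nat.card H, by rintro _ ⟨T, -, -, -, rfl⟩; exact Set.ncard_le_card T⟩
  have hw : ∀ d ∈ D, commutingWidth (Dq D d) = 22 := fun d hd => by
    obtain ⟨F, _, _, σ, hF, h, hP⟩ := (S.quot hd).exists_pmap
    exact (S.quot hd).width hP
  refine le_antisymm (csSup_le ⟨0, ∅, by simp⟩ ?_) (le_csSup (hbdd D) ?_)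
  · rintro n ⟨E, hE, -, hc, rfl⟩
    rcases E.eq_empty_or_nonempty with rfl | ⟨d, hdE⟩
    · simp
    have hd := hE hdE
    have hsub : E \ {d} ⊆ nb D d := fun y hy => ⟨hE hy.1, hy.2, hc d hdE y hy.1⟩
    have h1 : (qd D d '' (E \ {d})).ncard ≤ 22 := by
      rw [← hw d hd]
      refine le_csSup (hbdd _) ⟨_, ?_, Set.toFinite _, ?_, rfl⟩
      · rintro _ ⟨y, hy, rfl⟩; exact qd_mem (hsub hy)
      · rintro _ ⟨y, hy, rfl⟩ _ ⟨z, hz, rfl⟩
        exact (S.qd_comm hd (hsub hy) (hsub hz)).2 (hc y hy.1 z hz.1)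
    rw [S.ncard_image hd hsub] at h1
    have h6 := Set.ncard_sdiff_singleton_add_one hdE (Set.toFinite _)
    omega
  · obtain ⟨d, hd, -⟩ := S.exists_pair
    obtain ⟨T, hT, -, hTc, hTn⟩ := Nat.sSup_mem (s := {n : ℕ | ∃ T : Set (Qd D d), T ⊆ Dq D d ∧ T.Finite ∧
      (∀ a ∈ T, ∀ c ∈ T, Commute a c) ∧ T.ncard = n}) ⟨0, ∅, by simp⟩ (hbdd _)
    have e22 : T.ncard = 22 := hTn.trans (hw d hd)
    refine ⟨insert d {y | y ∈ nb D d ∧ qd D d y ∈ T}, Set.insert_subset hd fun y hy => hy.1.1, Set.toFinite _, ?_, ?_⟩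
    · rintro a (rfl | ha) c (rfl | hc)
      · exact Commute.refl _
      · exact hc.1.2.2
      · exact ha.1.2.2.symm
      · exact (S.qd_comm hd ha.1 hc.1).1 (hTc _ ha.2 _ hc.2)
    · rw [Set.ncard_insert_of_notMem fun hh => hh.1.2.1 rfl, ← S.ncard_image hd fun y hy => hy.1,
        show qd D d '' {y | y ∈ nb D d ∧ qd D d y ∈ T} = T from ?_, e22]
      ext z
      refine ⟨fun ⟨y, hy, e⟩ => e ▸ hy.2, fun hz => ?_⟩
      obtain ⟨y, hy, rfl⟩ := dq_exists (hT hz)
      exact ⟨y, ⟨hy, hz⟩, rfl⟩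

/-- The joint centraliser is quasisimple, its quotient the unitary group, its centre the four group. -/
theorem Setting23.pair_facts (S : Setting23 D) (hd : d ∈ D) (hb : b ∈ nb D d) :
    IsQuasisimple (Subgroup.closure (pnb D d b)) ∧
      (∃ (F : Type) (_ : Field F) (_ : Fintype F), Fintype.card F = 4 ∧
        Nonempty (↥(Subgroup.closure (pnb D d b)) ⧸ Subgroup.center ↥(Subgroup.closure (pnb D d b)) ≃* PSU 6 F 2)) ∧
      ∀ x : Subgroup.closure (pnb D d b), x ∈ Subgroup.center (Subgroup.closure (pnb D d b)) ↔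
        (x : G) = 1 ∨ (x : G) = d ∨ (x : G) = b ∨ (x : G) = d * b := by
  obtain ⟨F, _, _, σ, hF, h, f, hP, P⟩ := S.exists_pair_map hd hb
  haveI := Fintype.ofFinite F
  obtain ⟨ρ, hρ⟩ : ∃ ρ : Subgroup.closure (pnb D d b) →* Subgroup.closure (nb (Dq D d) (qd D d b)),
      ∀ x, (ρ x : Qd D d) = qd D d (x : G) :=
    ⟨MonoidHom.mk' (fun x => ⟨qd D d (x : G), pair_image S hd hb x.2⟩)
      fun x y => Subtype.ext (qd_mul (pnb_le x.2) (pnb_le y.2)), fun _ => rfl⟩
  have hsurj : Function.Surjective ρ := fun k => by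
    obtain ⟨x, hx, e⟩ := pair_closure S hd hb k.2
    exact ⟨⟨x, hx⟩, Subtype.ext ((hρ _).trans e)⟩
  have hfour : ∀ x : Subgroup.closure (pnb D d b), f (ρ x) = 1 →
      (x : G) = 1 ∨ (x : G) = d ∨ (x : G) = b ∨ (x : G) = d * b := fun x hx =>
    four_cases S hd hb (pnb_le x.2) (hρ x ▸ P.center_cases (S.quot hd) hP (qd_mem hb) hx)
  have hcen : ∀ x : Subgroup.closure (pnb D d b),
      ((x : G) = 1 ∨ (x : G) = d ∨ (x : G) = b ∨ (x : G) = d * b) → x ∈ Subgroup.center _ := fun x hx => by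
    refine Subgroup.mem_center_iff.2 fun y => Subtype.ext ?_
    obtain ⟨c1, c2⟩ := pnb_commute y.2
    rw [Subgroup.coe_mul, Subgroup.coe_mul]
    rcases hx with r | r | r | r <;> rw [r]
    exacts [(Commute.one_right _).eq, c1.eq, c2.eq, (c1.mul_right c2).eq]
  have hiff : ∀ x : Subgroup.closure (pnb D d b), x ∈ Subgroup.center (Subgroup.closure (pnb D d b)) ↔
      (x : G) = 1 ∨ (x : G) = d ∨ (x : G) = b ∨ (x : G) = d * b := fun x => ⟨fun hx => hfour x ((P.ker _).2
    (Subgroup.mem_center_iff.2 fun k => by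
      obtain ⟨y, rfl⟩ := hsurj k
      rw [← map_mul, ← map_mul, Subgroup.mem_center_iff.1 hx y])), hcen x⟩
  have hker : (f.comp ρ).ker = Subgroup.center _ := Subgroup.ext fun x => ⟨fun hx => hcen x (hfour x hx), fun hx =>
    (P.ker _).2 (Subgroup.mem_center_iff.2 fun k => by
      obtain ⟨y, rfl⟩ := hsurj k
      rw [← map_mul, ← map_mul, Subgroup.mem_center_iff.1 hx y])⟩
  obtain ⟨e⟩ : Nonempty (↥(Subgroup.closure (pnb D d b)) ⧸ Subgroup.center ↥(Subgroup.closure (pnb D d b)) ≃*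
      PSU 6 F 2) := ⟨(QuotientGroup.quotientMulEquivOfEq hker.symm).trans
    (QuotientGroup.quotientKerEquivOfSurjective _ (P.surj.comp hsurj))⟩
  have h4 : Fintype.card F = 4 := by rw [← Nat.card_eq_fintype_card, hF]; norm_num
  refine ⟨⟨Group.isPerfect_def.2 (eq_top_iff.2 fun x _ => ?_), isSimpleGroup_of_equiv e (psu_six_simple h4).1⟩,
    ⟨F, inferInstance, inferInstance, h4, ⟨e⟩⟩, hiff⟩
  obtain ⟨hd', hb'⟩ := S.pair_derived hd hb
  rw [← Subgroup.map_subtype_commutator] at hd' hb'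
  obtain ⟨δ, hδ, eδ⟩ := hd'
  obtain ⟨β, hβ, eβ⟩ := hb'
  obtain ⟨k, hk, hke⟩ : f (ρ x) ∈ (commutator (Subgroup.closure (pnb D d b))).map (f.comp ρ) := by
    rw [commutator_def, Subgroup.map_commutator,
      Subgroup.map_top_of_surjective (f.comp ρ) (P.surj.comp hsurj), ← commutator_def, psu_perfect hF]
    trivial
  have h1 : f (ρ (k⁻¹ * x)) = 1 := by
    rw [map_mul, map_mul, map_inv, map_inv, show f (ρ k) = f (ρ x) from hke, inv_mul_cancel]
  have hx : x = k * (k⁻¹ * x) := (mul_inv_cancel_left k x).symm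
  rw [hx]
  refine mul_mem hk ?_
  rcases hfour _ h1 with r | r | r | r
  · rw [show k⁻¹ * x = 1 from Subtype.ext r]; exact one_mem _
  · rw [show k⁻¹ * x = δ from Subtype.ext (r.trans eδ.symm)]; exact hδ
  · rw [show k⁻¹ * x = β from Subtype.ext (r.trans eβ.symm)]; exact hβ
  · rw [show k⁻¹ * x = δ * β from Subtype.ext (by rw [r, Subgroup.coe_mul]; exact (congrArg₂ (· * ·) eδ eβ).symm)]
    exact mul_mem hδ hβ

end CfsgLib.KnownB.TypeM23
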