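import Cfsg.Agent.Lib.KnownB.TypeM22.Action

/-!
Automorphisms fixing a member and its partners, when lines are detected by common partners.
-/

set_option autoImplicit false

namespace CfsgLib.KnownB.TypeM23

open Cfsg CfsgLib.Classical.Unitary CfsgLib.ThreeTransp CfsgLib.ThreeTransp.USix CfsgLib.Involutions
open CfsgLib.KnownB.TypeM22

universe u

variable {G : Type u} [Group G] {D : Set G}

/-- A member commuting with the common partners of two is on their line. -/
def LineProp (D : Set G) : Prop :=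
  ∀ a ∈ D, ∀ c ∈ D, ¬ Commute a c → ∀ w ∈ D, (∀ y ∈ both D a c, Commute w y) → w = a ∨ w = c ∨ w = a * c * a

theorem auto_cases (hW : WeakTS D) (hL : LineProp D) {d : G} (hd : d ∈ D) (φ : G ≃* G)
    (hφ : ∀ x ∈ D, φ x ∈ D) (hfd : φ d = d) (hfix : ∀ y ∈ nb D d, φ y = y) :
    (∀ x, φ x = x) ∨ ∀ x, φ x = d * x * d := by
  have hfix' : ∀ y ∈ D, Commute d y → φ y = y := fun y hy hc => by
    rcases eq_or_ne y d with rfl | hne
    · exact hfd
    · exact hfix y ⟨hy, hne, hc⟩
  have hfib : ∀ e ∈ D, ¬ Commute d e → φ e = e ∨ φ e = d * e * d := by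
    intro e he hde
    rcases hL d hd e he hde (φ e) (hφ e he) fun y hy => by
      have := hy.2.2.map φ
      rwa [hfix' y hy.1 hy.2.1] at this with r | r | r
    · exact absurd ((φ.injective (r.trans hfd.symm)) ▸ Commute.refl d) hde
    · exact Or.inl r
    · exact Or.inr r
  have hcom : ∀ e ∈ D, ¬ Commute d e → ∀ e' ∈ D, ¬ Commute d e' → Commute e e' → φ e = e → φ e' = e' := by
    intro e he hde e' he' hde' hc hf
    rcases hfib e' he' hde' with r | r
    · exact r
    exfalso
    have h1 : Commute e (d * e' * d) := by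
      have := hc.map φ
      rwa [hf, r] at this
    have h2 : Commute e (e' * (d * e' * d) * e') := (hc.mul_right h1).mul_right hc
    rw [← hW.braid he' hd (fun e'' => hde' e''.symm), hW.conj_self he' d] at h2
    exact hde h2.symm
  have hconst : ∀ e ∈ D, ¬ Commute d e → ∀ e' ∈ D, ¬ Commute d e' → φ e = e → φ e' = e' := by
    intro e he hde e' he' hde' hf
    by_cases hee : Commute e e'
    · exact hcom e he hde e' he' hde' hee hf
    by_cases hall : ∀ y ∈ both D e e', Commute d y
    · rcases hL e he e' he' hee d hd hall with r | r | r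
      · exact absurd (r ▸ Commute.refl e) hde
      · exact absurd (r ▸ Commute.refl e') hde'
      · have h3 : e' = d * e * d := by rw [hW.braid hd he hde, r, hW.conj_self he e']
        rw [h3, map_mul, map_mul, hfd, hf]
    · push Not at hall
      obtain ⟨y, hy, hdy⟩ := hall
      exact hcom y hy.1 hdy e' he' hde' hy.2.2.symm (hcom e he hde y hy.1 hdy hy.2.1 hf)
  have hext : ∀ (ψ : G →* G) (φ' : G →* G), (∀ x ∈ D, ψ x = φ' x) → ∀ x, ψ x = φ' x := fun ψ φ' hh x =>
    MonoidHom.eqOn_closure (s := D) hh (hW.gen ▸ Subgroup.mem_top x)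
  by_cases hfe : ∀ e ∈ D, ¬ Commute d e → φ e = e
  · left
    exact fun x => hext φ.toMonoidHom (MonoidHom.id G) (fun y hy => by
      by_cases hdy : Commute d y
      · exact hfix' y hy hdy
      · exact hfe y hy hdy) x
  · right
    push Not at hfe
    obtain ⟨e, he, hde, hne⟩ := hfe
    have hd' : d⁻¹ = d := hW.inv hd
    refine fun x => (hext φ.toMonoidHom (MulAut.conj d).toMonoidHom (fun y hy => ?_) x).trans ?_
    · show φ y = d * y * d⁻¹
      rw [hd']
      by_cases hdy : Commute d y
      · rw [hfix' y hy hdy, hdy.eq, mul_assoc, hW.sq d hd, mul_one]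
      · rcases hfib y hy hdy with r | r
        · exact absurd (hconst y hy hdy e he hde r) hne
        · exact r
    · show d * x * d⁻¹ = d * x * d
      rw [hd']

/-- Only the member and the identity centralise it and its partners. -/
theorem eq_one_or (hW : WeakTS D) (hZ : Subgroup.center G = ⊥) (hL : LineProp D) {d : G} (hd : d ∈ D) {x : G}
    (hxd : Commute x d) (hx : ∀ y ∈ nb D d, Commute x y) : x = 1 ∨ x = d := by
  have key : ∀ {x : G}, (∀ z, x * z * x⁻¹ = z) → x = 1 := fun {x} hh => by
    have h1 : x ∈ Subgroup.center G := hW.mem_center fun z _ => mul_inv_eq_iff_eq_mul.1 (hh z)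
    rwa [hZ, Subgroup.mem_bot] at h1
  rcases auto_cases hW hL hd (MulAut.conj x) (fun y hy => hW.conj x y hy)
    (conj_eq_of_commute hxd) (fun y hy => conj_eq_of_commute (hx y hy)) with r | r
  · exact Or.inl (key r)
  · right
    have h2 : d * x = 1 := key fun z => by
      rw [show d * x * z * (d * x)⁻¹ = d * (x * z * x⁻¹) * d⁻¹ by group, show x * z * x⁻¹ = d * z * d from r z,
        hW.inv hd, hW.conj_self hd z]
    rw [← hW.inv hd]
    exact eq_inv_of_mul_eq_one_right h2

variable [Finite G] {F : Type} [Field F] {σ : F →+* F} {hF : Nat.card F = 2 ^ 2} {h : UFrob σ 2}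

theorem lineProp_m22 (S : Setting D) (hP : Maps hF h D) : LineProp D := by
  haveI : Finite F := Nat.finite_of_card_ne_zero (by rw [hF]; norm_num)
  intro a ha c hc hn w hw hall
  have hW := S.weak
  obtain ⟨p, hp, hpw⟩ : ∃ p ∈ both D a c, p ≠ w := by
    by_contra hno
    push Not at hno
    have h1 := Set.ncard_le_ncard (t := {w}) (fun p hp => hno p hp)
    rw [(S.counts hP).2.2.1 a ha c hc hn, Set.ncard_singleton] at h1
    omega
  have ap : a ∈ nb D p := ⟨ha, fun e => hn (e ▸ hp.2.2).symm, hp.2.1.symm⟩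
  have cp : c ∈ nb D p := ⟨hc, fun e => hn (e ▸ hp.2.1), hp.2.2.symm⟩
  have wp : w ∈ nb D p := ⟨hw, hpw.symm, (hall p hp).symm⟩
  obtain ⟨f, P⟩ := hP p hp.1
  obtain ⟨va, hva0, ea⟩ := exists_vec P ap
  obtain ⟨vc, -, ec⟩ := exists_vec P cp
  obtain ⟨vw, hvw0, ew⟩ := exists_vec P wp
  have hac : uh σ va vc ≠ 0 := fun e' => hn ((ea.comm P hW ec).2 e')
  by_cases hspan : ∃ x y : F, vw = x • va + y • vc
  · obtain ⟨x, y, hxy⟩ := hspan
    have aca : a * c * a ∈ nb D p := by
      have := hW.nb_conj a cp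
      rwa [conj_eq_of_commute ap.2.2.symm, hW.inv ha] at this
    rcases line_cases hF h ea.iso ec.iso hac ew.iso hvw0 hxy with r | r | r
    · left; exact P.inj wp ap (ew.2.2.trans (r.trans ea.2.2.symm))
    · right; left; exact P.inj wp cp (ew.2.2.trans (r.trans ec.2.2.symm))
    · right; right
      rw [← ea.2.2, ← ec.2.2, ← map_mul, ← map_mul, show el ap * el cp * el ap = el aca from rfl] at r
      exact P.inj wp aca (ew.2.2.trans r)
  · push Not at hspan
    obtain ⟨r, hr0, hr, hra, hrc, hrw⟩ := exists_witness hF h ea.iso ec.iso hac hspan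
    obtain ⟨y, hy⟩ := exists_isPt P hr hr0
    refine absurd ((hy.comm P hW ew).1 (hall y ⟨hy.mem.1, ?_, ?_⟩).symm) hrw
    · exact ((hy.comm P hW ea).2 hra).symm
    · exact ((hy.comm P hW ec).2 hrc).symm

end CfsgLib.KnownB.TypeM23
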