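import Cfsg.Agent.Lib.KnownB.TypeM22.Count
import Cfsg.Agent.Lib.Spor.FischerTypes.Transport
import Cfsg.Agent.Lib.ThreeTransp.ReflThree
import Cfsg.Agent.Lib.ThreeTransp.FischerHyp

/-!
The partners of a member in a group of type M(23), modulo the centre, form a group of type M(22).
-/

set_option autoImplicit false

namespace CfsgLib.KnownB.TypeM23

open Cfsg CfsgLib.Classical.Unitary CfsgLib.ThreeTransp CfsgLib.Involutions
open CfsgLib.KnownB.TypeM22

universe u

variable {G : Type u} [Group G] {D : Set G}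

/-- The group of the partners modulo its centre. -/
abbrev Qd (D : Set G) (d : G) : Type u :=
  ↥(Subgroup.closure (nb D d)) ⧸ Subgroup.center ↥(Subgroup.closure (nb D d))

/-- The images of the partners. -/
def Dq (D : Set G) (d : G) : Set (Qd D d) := QuotientGroup.mk '' inClosure (nb D d)

open scoped _root_.Classical in
/-- The image of an element. -/
noncomputable def qd (D : Set G) (d x : G) : Qd D d :=
  if hx : x ∈ Subgroup.closure (nb D d) then QuotientGroup.mk ⟨x, hx⟩ else 1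

theorem qd_mk {d : G} (w : Subgroup.closure (nb D d)) : qd D d (w : G) = QuotientGroup.mk w := by
  rw [qd, dif_pos w.2]

theorem mem_H {d y : G} (hy : y ∈ nb D d) : y ∈ Subgroup.closure (nb D d) := Subgroup.subset_closure hy

theorem qd_mem {d y : G} (hy : y ∈ nb D d) : qd D d y ∈ Dq D d :=
  ⟨el hy, hy, (qd_mk (el hy)).symm⟩

theorem dq_exists {d : G} {z : Qd D d} (hz : z ∈ Dq D d) : ∃ y, y ∈ nb D d ∧ qd D d y = z := by
  obtain ⟨w, hw, rfl⟩ := hz
  exact ⟨w, hw, qd_mk w⟩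

theorem qd_surj {d : G} (z : Qd D d) : ∃ x, x ∈ Subgroup.closure (nb D d) ∧ qd D d x = z := by
  obtain ⟨w, rfl⟩ := QuotientGroup.mk_surjective z
  exact ⟨w, w.2, qd_mk w⟩

theorem qd_one {d : G} : qd D d 1 = 1 :=
  (qd_mk (1 : Subgroup.closure (nb D d))).trans rfl

theorem qd_mul {d x y : G} (hx : x ∈ Subgroup.closure (nb D d)) (hy : y ∈ Subgroup.closure (nb D d)) :
    qd D d (x * y) = qd D d x * qd D d y := by
  rw [show qd D d (x * y) = _ from qd_mk (⟨x, hx⟩ * ⟨y, hy⟩), show qd D d x = _ from qd_mk ⟨x, hx⟩,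
    show qd D d y = _ from qd_mk ⟨y, hy⟩]
  rfl

theorem qd_inv {d x : G} (hx : x ∈ Subgroup.closure (nb D d)) : qd D d x⁻¹ = (qd D d x)⁻¹ := by
  rw [show qd D d x⁻¹ = _ from qd_mk (⟨x, hx⟩⁻¹), show qd D d x = _ from qd_mk ⟨x, hx⟩]
  rfl

theorem qd_conj {d x y : G} (hx : x ∈ Subgroup.closure (nb D d)) (hy : y ∈ Subgroup.closure (nb D d)) :
    qd D d (x * y * x⁻¹) = qd D d x * qd D d y * (qd D d x)⁻¹ := by
  rw [qd_mul (mul_mem hx hy) (inv_mem hx), qd_mul hx hy, qd_inv hx]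

theorem qd_eq_one {d x : G} (hx : x ∈ Subgroup.closure (nb D d)) :
    qd D d x = 1 ↔ ∀ y ∈ nb D d, Commute x y := by
  rw [show qd D d x = _ from qd_mk ⟨x, hx⟩, QuotientGroup.eq_one_iff, Subgroup.mem_center_iff]
  constructor
  · exact fun hh y hy => (congrArg Subtype.val (hh (el hy))).symm
  · intro hh w
    refine Subtype.ext ?_
    have hle : Subgroup.closure (nb D d) ≤ Subgroup.centralizer ({x} : Set G) :=
      (Subgroup.closure_le _).2 fun y hy => Subgroup.mem_centralizer_singleton_iff.2 (hh y hy).eq.symm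
    exact Subgroup.mem_centralizer_singleton_iff.1 (hle w.2)

/-- What is used of type M(23). -/
structure Setting23 (D : Set G) : Prop where
  cls : TClass D
  prim : IsPrimitiveUnderConj D
  center : Subgroup.center G = ⊥
  typ_all : ∀ {d : G}, d ∈ D → IsOfTypeM22 (Qd D d) (Dq D d)
  exists_common : ∀ {d x y : G}, d ∈ D → x ∈ nb D d → y ∈ nb D d → ¬ Commute x y →
    ∃ b, b ∈ nb D d ∧ Commute x b ∧ Commute y b

/-- The hypotheses with the type as stated. -/
structure Strict23 (D : Set G) : Prop where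
  cls : TClass D
  prim : IsPrimitiveUnderConj D
  typ : IsOfTypeM23 G D

variable [Finite G]

omit [Finite G] in
theorem Setting23.weak (S : Setting23 D) : WeakTS D :=
  weakTS_of_group ⟨S.cls.ts, S.cls.conj, S.cls.gen⟩

omit [Finite G] in
theorem Strict23.weak (S : Strict23 D) : WeakTS D :=
  weakTS_of_group ⟨S.cls.ts, S.cls.conj, S.cls.gen⟩

omit [Finite G] in
theorem Setting23.group (S : Setting23 D) : IsThreeTranspositionGroup D := ⟨S.cls.ts, S.cls.conj, S.cls.gen⟩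

/-- In type M(22) some two distinct members commute. -/
theorem pair_of_typeM22 {H : Type u} [Group H] {E : Set H} (ht : IsOfTypeM22 H E) :
    ∃ a ∈ E, ∃ b ∈ E, a ≠ b ∧ Commute a b := by
  obtain ⟨-, d, hd, c, -, -, ⟨F, _, _, hF, ⟨e⟩⟩, -⟩ := ht
  rcases Set.eq_empty_or_nonempty (nb E d) with hE | ⟨b, hb⟩
  · exfalso
    haveI := (psu_six_simple hF).1
    obtain ⟨x, hx⟩ := exists_ne (1 : PSU 6 F 2)
    obtain ⟨⟨y, hy⟩, hye⟩ := QuotientGroup.mk_surjective (e.symm x)
    have hy1 : y = 1 := by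
      have h1 : (Subgroup.closure (nb E d)) = ⊥ := by rw [hE, Subgroup.closure_empty]
      exact Subgroup.mem_bot.1 (h1 ▸ hy)
    refine hx ?_
    have h2 : e.symm x = 1 := hye.symm.trans ((QuotientGroup.eq_one_iff _).2 (by
      subst hy1; exact one_mem (Subgroup.center _)))
    rw [← e.apply_symm_apply x, h2, map_one]
  · exact ⟨d, hd, b, hb.1, hb.2.1.symm, hb.2.2⟩

theorem Strict23.typ_all (S : Strict23 D) {d : G} (hd : d ∈ D) : IsOfTypeM22 (Qd D d) (Dq D d) := by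
  obtain ⟨-, d₀, hd₀, c, -, -, hT, -⟩ := S.typ
  obtain ⟨g, hg⟩ := S.cls.trans d₀ hd₀ d hd
  have hS : MulAut.conj g '' nb D d₀ = nb D d := by
    rw [← hg]
    ext z
    constructor
    · rintro ⟨y, hy, rfl⟩; exact S.weak.nb_conj g hy
    · intro hz
      refine ⟨g⁻¹ * z * g, ?_, by simp [mul_assoc]⟩
      have := S.weak.nb_conj g⁻¹ hz
      rwa [inv_inv, show g⁻¹ * (g * d₀ * g⁻¹) * g = d₀ by group] at this
  have h1 := CfsgLib.Spor.FischerTypes.typeM22_congr (CfsgLib.Spor.FischerTypes.quotCongr (MulAut.conj g) hS) _ hT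
  exact (congrArg (IsOfTypeM22 _) (CfsgLib.Spor.FischerTypes.image_quotCongr (MulAut.conj g) hS)).mp h1

theorem Setting23.exists_pair (S : Setting23 D) : ∃ a ∈ D, ∃ b ∈ D, a ≠ b ∧ Commute a b := by
  obtain ⟨d, hd, -⟩ := S.cls.two
  obtain ⟨a, ha, -⟩ := pair_of_typeM22 (S.typ_all hd)
  obtain ⟨y, hy, -⟩ := dq_exists ha
  exact ⟨d, hd, y, hy.1, hy.2.1.symm, hy.2.2⟩

theorem Strict23.exists_pair (S : Strict23 D) : ∃ a ∈ D, ∃ b ∈ D, a ≠ b ∧ Commute a b := by
  obtain ⟨d, hd, -⟩ := S.cls.two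
  obtain ⟨a, ha, -⟩ := pair_of_typeM22 (S.typ_all hd)
  obtain ⟨y, hy, -⟩ := dq_exists ha
  exact ⟨d, hd, y, hy.1, hy.2.1.symm, hy.2.2⟩

theorem Setting23.pCore_two (S : Setting23 D) : pCore 2 G ≤ Subgroup.center G :=
  (S.cls.pCores_central_of_primitive S.prim S.exists_pair).1

/-- Distinct partners have distinct images. -/
theorem Setting23.qd_inj (S : Setting23 D) {d x y : G} (hd : d ∈ D) (hx : x ∈ nb D d) (hy : y ∈ nb D d)
    (he : qd D d x = qd D d y) : x = y := by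
  have hW := S.weak
  have h1 : qd D d (x⁻¹ * y) = 1 := by
    rw [qd_mul (inv_mem (mem_H hx)) (mem_H hy), qd_inv (mem_H hx), he, inv_mul_cancel]
  have hcen : ∀ w ∈ nb D d, Commute w (x * y) := fun w hw => by
    have := (qd_eq_one (mul_mem (inv_mem (mem_H hx)) (mem_H hy))).1 h1 w hw
    rw [hW.inv hx.1] at this
    exact this.symm
  have hxy : Commute x y := by
    have h4 : x * (x * y) = x * y * x := (hcen x hx).eq
    rw [hW.mul_mul_self hx.1] at h4
    calc x * y = x * (x * y * x) := by rw [← h4]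
      _ = y * x := by rw [mul_assoc x y x, hW.mul_mul_self hx.1]
  obtain ⟨w, hw, h5, h6⟩ := S.cls.exists_moved_by_both S.prim hd hx hy hxy
  exact hW.eq_of_commute_mul hw.1 hx.1 hy.1 hxy h5 h6 (hcen w hw)

/-- Partners commute exactly when their images do. -/
theorem Setting23.qd_comm (S : Setting23 D) {d x y : G} (hd : d ∈ D) (hx : x ∈ nb D d) (hy : y ∈ nb D d) :
    Commute (qd D d x) (qd D d y) ↔ Commute x y := by
  refine ⟨fun hc => ?_, fun hc => ?_⟩
  · by_contra hn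
    have h1 := congrArg (qd D d) (S.weak.braid hx.1 hy.1 hn)
    rw [qd_mul (mul_mem (mem_H hx) (mem_H hy)) (mem_H hx), qd_mul (mem_H hx) (mem_H hy),
      qd_mul (mul_mem (mem_H hy) (mem_H hx)) (mem_H hy), qd_mul (mem_H hy) (mem_H hx), hc.eq] at h1
    exact hn (S.qd_inj hd hx hy (mul_left_cancel h1) ▸ Commute.refl x)
  · show _ * _ = _ * _
    rw [← qd_mul (mem_H hx) (mem_H hy), ← qd_mul (mem_H hy) (mem_H hx), hc.eq]

omit [Finite G] in
theorem solvable_quot {A : Type u} [Group A] (hA : Group.IsSolvable A) (N : Subgroup A) [N.Normal] :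
    Group.IsSolvable (A ⧸ N) :=
  haveI := hA
  solvable_of_surjective (QuotientGroup.mk'_surjective N)

/-- Two non-commuting partners of a member have a common partner commuting with it. -/
theorem Strict23.exists_common (S : Strict23 D) {d x y : G} (hd : d ∈ D) (hx : x ∈ nb D d) (hy : y ∈ nb D d)
    (hn : ¬ Commute x y) : ∃ b, b ∈ nb D d ∧ Commute x b ∧ Commute y b := by
  obtain ⟨-, d₀, hd₀, c₀, hc₀, hdc, -, c₃, hc3, Q, hQ, -, ⟨e⟩⟩ := S.typ
  obtain ⟨g₀, hg₀⟩ := S.cls.trans d₀ hd₀ x hx.1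
  have hn₀ : ¬ Commute d₀ (g₀⁻¹ * y * g₀) := fun h => hn (by
    have := (commute_conj_iff g₀).2 h
    rwa [hg₀, show g₀ * (g₀⁻¹ * y * g₀) * g₀⁻¹ = y by group] at this)
  obtain ⟨g', k1, k2⟩ := S.cls.rank_three S.prim S.exists_pair hd₀ hc₀
    (by simpa using S.cls.conj g₀⁻¹ y hy.1 : g₀⁻¹ * y * g₀ ∈ D) hdc hn₀
  obtain ⟨g, g1, g2⟩ : ∃ g : G, g * d₀ * g⁻¹ = x ∧ g * c₀ * g⁻¹ = y := ⟨g₀ * g', by
    rw [show g₀ * g' * d₀ * (g₀ * g')⁻¹ = g₀ * (g' * d₀ * g'⁻¹) * g₀⁻¹ by group, k1, hg₀], by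
    rw [show g₀ * g' * c₀ * (g₀ * g')⁻¹ = g₀ * (g' * c₀ * g'⁻¹) * g₀⁻¹ by group, k2]; group⟩
  have hW := S.weak
  obtain ⟨E, hE⟩ : ∃ E, E = nb D d₀ ∩ nb D c₀ := ⟨_, rfl⟩
  have hEb : ∀ {v}, v ∈ E ↔ v ∈ D ∧ Commute d₀ v ∧ Commute c₀ v := fun {v} => by
    rw [hE, ← LocalThree.both_eq_inter hdc]; rfl
  by_contra hno
  push Not at hno
  obtain ⟨δ, hδ⟩ : ∃ δ, δ = g⁻¹ * d * g := ⟨_, rfl⟩
  have hback : ∀ {a b : G}, Commute (g * a * g⁻¹) b ↔ Commute a (g⁻¹ * b * g) := fun {a b} => by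
    conv_lhs => rw [show b = g * (g⁻¹ * b * g) * g⁻¹ by group]
    exact commute_conj_iff g
  have hδE : δ ∈ E := hEb.2 ⟨by rw [hδ]; simpa using S.cls.conj g⁻¹ d hd, by
    rw [hδ, ← hback, g1]; exact hx.2.2.symm, by rw [hδ, ← hback, g2]; exact hy.2.2.symm⟩
  have hiso : ∀ v ∈ E, Commute δ v → v = δ := by
    intro v hv hc
    by_contra hne
    obtain ⟨hvD, v1, v2⟩ := hEb.1 hv
    refine hno (g * v * g⁻¹) ⟨S.cls.conj g v hvD, fun e0 => hne (by rw [hδ, ← e0]; group), ?_⟩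
      (g1 ▸ (commute_conj_iff g).2 v1) (g2 ▸ (commute_conj_iff g).2 v2)
    have := (commute_conj_iff g).2 hc
    rwa [show g * δ * g⁻¹ = d by rw [hδ]; group] at this
  -- the class of the isolated member
  obtain ⟨E', hE'⟩ : ∃ E', E' = inClosure E := ⟨_, rfl⟩
  have hord : ∀ w ∈ E', orderOf w = 2 := fun w hw => by
    subst hE'; rw [← Subgroup.orderOf_coe]; exact S.cls.ts.1 _ (hEb.1 hw).1
  have hcl : ∀ w : Subgroup.closure E, Commute d₀ (w : G) ∧ Commute c₀ (w : G) := fun w => by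
    constructor
    all_goals
      refine (Subgroup.mem_centralizer_singleton_iff.1 ((Subgroup.closure_le _).2 (fun v hv => ?_) w.2)).symm
      first
      | exact Subgroup.mem_centralizer_singleton_iff.2 (hEb.1 hv).2.1.eq.symm
      | exact Subgroup.mem_centralizer_singleton_iff.2 (hEb.1 hv).2.2.eq.symm
  have hconj : ∀ (w : Subgroup.closure E) (v : G), v ∈ E → (w : G) * v * (w : G)⁻¹ ∈ E := fun w v hv => by
    obtain ⟨h1, h2, h3⟩ := hEb.1 hv
    refine hEb.2 ⟨S.cls.conj _ _ h1, ?_, ?_⟩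
    · exact ((hcl w).1.mul_right h2).mul_right (hcl w).1.inv_right
    · exact ((hcl w).2.mul_right h3).mul_right (hcl w).2.inv_right
  have hgrp : IsThreeTranspositionGroup E' := by
    subst hE'
    refine ⟨⟨hord, fun a ha b hb => ?_⟩, fun w v hv => hconj w v hv, Subgroup.closure_closure_coe_preimage⟩
    rcases hW.prod _ (hEb.1 ha).1 _ (hEb.1 hb).1 with h | h
    · exact Or.inl (Subtype.ext h)
    · exact Or.inr (Subtype.ext h)
  have huniq : ∀ a ∈ E, ∀ b ∈ E, Commute a b → a = b := by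
    intro a ha b hb hc
    obtain ⟨w, hw⟩ : ∃ w : Subgroup.closure E, (w : G) * a * (w : G)⁻¹ = δ := by
      rcases eq_or_ne a δ with rfl | hne
      · exact ⟨1, by simp⟩
      · refine ⟨⟨a * δ, mul_mem (Subgroup.subset_closure ha) (Subgroup.subset_closure hδE)⟩, ?_⟩
        exact ts_conj_braid S.cls.ts (hEb.1 ha).1 (hEb.1 hδE).1 fun h => hne (hiso a ha h.symm)
    have h1 := hiso _ (hconj w b hb) (by rw [← hw]; exact (commute_conj_iff _).2 hc)
    exact (mul_left_cancel (mul_right_cancel (hw.trans h1.symm)))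
  have hw1 : commutingWidth E' = 1 := by
    subst hE'
    refine IsGreatest.csSup_eq ⟨⟨{el hδE}, Set.singleton_subset_iff.2 hδE, Set.finite_singleton _,
      by rintro _ rfl _ rfl; exact Commute.refl _, Set.ncard_singleton _⟩, ?_⟩
    rintro n ⟨T, hT, -, hTc, rfl⟩
    refine (Set.ncard_le_one_iff (Set.toFinite T)).2 fun {a b} ha hb => Subtype.ext ?_
    exact huniq _ (hT ha) _ (hT hb) (congrArg Subtype.val (hTc _ ha _ hb).eq)
  have htop := (commutingWidth_eq_one_iff hgrp (d := el hδE) (hE' ▸ hδE)).1 hw1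
  haveI : Fact (Nat.Prime 3) := ⟨Nat.prime_three⟩
  haveI : Group.IsNilpotent (pCore 3 (Subgroup.closure E)) :=
    (Base.isPGroup_pCore 3 (Subgroup.closure E)).isNilpotent
  have hsol : Group.IsSolvable (Subgroup.closure E) := solvable_of_quotient_cyclic inferInstance htop
  subst hE
  -- the reflection group is not solvable
  haveI h1 : Group.IsSolvable (↥(Subgroup.closure (nb D d₀ ∩ nb D c₀)) ⧸
      Subgroup.center ↥(Subgroup.closure (nb D d₀ ∩ nb D c₀))) := solvable_quot hsol _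
  obtain ⟨e'⟩ : Nonempty ((↥(Subgroup.closure (nb D d₀ ∩ nb D c₀)) ⧸
      Subgroup.center ↥(Subgroup.closure (nb D d₀ ∩ nb D c₀))) ≃*
      (↥(reflectionSubgroup (⇑Q) c₃) ⧸ Subgroup.center ↥(reflectionSubgroup (⇑Q) c₃))) := ⟨e⟩
  haveI h2 : Group.IsSolvable (↥(reflectionSubgroup (⇑Q) c₃) ⧸ Subgroup.center ↥(reflectionSubgroup (⇑Q) c₃)) :=
    solvable_of_surjective (f := e'.toMonoidHom) e'.surjective
  haveI : Group.IsSolvable (Subgroup.center ↥(reflectionSubgroup (⇑Q) c₃)) :=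
    Group.isSolvable_of_comm fun a b => Subtype.ext (Subgroup.mem_center_iff.1 b.2 a)
  haveI h3 : Group.IsSolvable ↥(reflectionSubgroup (⇑Q) c₃) :=
    Group.isSolvable_of_ker_le_range (Subgroup.center ↥(reflectionSubgroup (⇑Q) c₃)).subtype
      (QuotientGroup.mk' (Subgroup.center ↥(reflectionSubgroup (⇑Q) c₃))) (by
      rw [QuotientGroup.ker_mk', Subgroup.range_subtype])
  have hqs := CfsgLib.ThreeTransp.ReflThree.commutator_quasisimple hQ (by norm_num : 5 ≤ 7) hc3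
  haveI := hqs.2
  haveI : Group.IsPerfect ↥(commutator ↥(reflectionSubgroup (⇑Q) c₃)) := hqs.1
  have hperf : ⁅commutator ↥(reflectionSubgroup (⇑Q) c₃), commutator ↥(reflectionSubgroup (⇑Q) c₃)⁆ =
      commutator ↥(reflectionSubgroup (⇑Q) c₃) := quasisimple_perfect hqs
  have hbot : commutator ↥(reflectionSubgroup (⇑Q) c₃) = ⊥ := commutator_self_of_solvable hperf
  refine CfsgLib.Components.quasisimple_not_isMulCommutative hqs ⟨⟨fun a b => Subtype.ext ?_⟩⟩
  have key : ∀ z ∈ commutator ↥(reflectionSubgroup (⇑Q) c₃), z = 1 := fun z hz =>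
    Subgroup.mem_bot.1 (hbot ▸ hz)
  simp [key a.1 a.2, key b.1 b.2]

theorem Strict23.setting (S : Strict23 D) : Setting23 D :=
  ⟨S.cls, S.prim, S.typ.1, fun {d} hd => S.typ_all hd, fun {d x y} hd hx hy hn => S.exists_common hd hx hy hn⟩

theorem setting_of (hD : IsThreeTranspositionGroup D) (hp : IsPrimitiveUnderConj D) (ht : IsOfTypeM23 G D) :
    Setting23 D := Strict23.setting ⟨tclass_of_primitive hD hp, hp, ht⟩

end CfsgLib.KnownB.TypeM23
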