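import Cfsg.Agent.Lib.KnownB.TypeM23.Pair
import Cfsg.Agent.Lib.KnownB.TypeM22.Cent

/-!
An element centralising two commuting members acts on their common partners as an element of the
subgroup these generate: the products over three hexads tell the three field classes apart.
-/

set_option autoImplicit false

namespace CfsgLib.KnownB.TypeM23

open Cfsg CfsgLib.Classical.Unitary CfsgLib.ThreeTransp CfsgLib.ThreeTransp.USix CfsgLib.Involutions
open CfsgLib.KnownB.TypeM22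
open CfsgLib.Spor (QField)
open Matrix

universe u

variable {F : Type} [Field F] {σ : F →+* F} {hF : Nat.card F = 2 ^ 2} {h : UFrob σ 2}
  {G : Type u} [Group G] [Finite G] {D : Set G} {d b : G}
  {f : Subgroup.closure (nb (Dq D d) (qd D d b)) →* PSU 6 F 2}

theorem conj_pnb (S : Setting23 D) {g y : G} (hgd : Commute g d) (hgb : Commute g b) (hy : y ∈ pnb D d b) :
    g * y * g⁻¹ ∈ pnb D d b :=
  ⟨TypeM22.conj_nb S.weak hgd hy.1, TypeM22.conj_nb S.weak hgb hy.2⟩

theorem code_omega (hF : Nat.card F = 2 ^ 2) (h : UFrob σ 2) (e : QField ≃+* F) :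
    1 + e ⟨2⟩ + e ⟨2⟩ ^ 2 = 0 ∧ e ⟨2⟩ ^ 3 = 1 ∧ σ (e ⟨2⟩) = e ⟨2⟩ ^ 2 := by
  refine ⟨?_, ?_, by rw [h.pow]⟩
  · rw [← map_pow, ← map_one e, ← map_add, ← map_add, show (1 : QField) + ⟨2⟩ + ⟨2⟩ ^ 2 = 0 by decide, map_zero]
  · rw [← map_pow, show (⟨2⟩ : QField) ^ 3 = 1 by decide, map_one]

/-- The codes of the outer points of two hexads. -/
def outer (j : Bool) : Fin 3 → ℕ := if j then ![37, 25, 61] else ![21, 57, 45]

theorem outer_eq (e : QField ≃+* F) (r s : Fin 3 → V F) (j : Bool) (i : Fin 3) :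
    cvec r (hexC (e ⟨2⟩) (if j then e ⟨2⟩ else 1) (Fin.natAdd 3 i)) = vq e r s (qvec (outer j i)) := by
  have q : qvec 21 = ![1, 1, 1, 0, 0, 0] ∧ qvec 57 = ![1, ⟨2⟩, ⟨3⟩, 0, 0, 0] ∧
      qvec 45 = ![1, ⟨3⟩, ⟨2⟩, 0, 0, 0] ∧ qvec 37 = ![1, 1, ⟨2⟩, 0, 0, 0] ∧ qvec 25 = ![1, ⟨2⟩, 1, 0, 0, 0] ∧
      qvec 61 = ![1, ⟨3⟩, ⟨3⟩, 0, 0, 0] := by decide
  have e2 : e ⟨2⟩ * e ⟨2⟩ = e ⟨3⟩ := by rw [← map_mul]; rfl
  have e3 : e ⟨3⟩ * e ⟨2⟩ = 1 := by rw [← map_mul, show (⟨3⟩ : QField) * ⟨2⟩ = 1 by decide, map_one]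
  cases j <;> fin_cases i <;> simp [outer, q, cvec, hexC, vq, lin, pow_two, e2, e3]

/-- An element fixing the inner points of a hexad permutes the outer ones. -/
theorem mark (S : Setting23 D) (hd : d ∈ D) (hb : b ∈ nb D d) (hP : Maps hF h (Dq D d))
    (P : PMap hF h (Dq D d) (qd D d b) f) {e : QField ≃+* F} {r s : Fin 3 → V F} (H : Hyp σ r s) {g : G}
    (hgd : Commute g d) (hgb : Commute g b) (hfr : ∀ y i, Pt hF h f y (r i) → g * y * g⁻¹ = y) (j : Bool)
    (i : Fin 3) {u : G} (pu : Pt hF h f u (vq e r s (qvec (outer j i)))) :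
    ∃ i', Pt hF h f (g * u * g⁻¹) (vq e r s (qvec (outer j i'))) := by
  classical
  obtain ⟨hω, hω3, hσω⟩ := code_omega hF h e
  have hθ : (if j then e ⟨2⟩ else 1) ≠ 0 := by
    cases j
    · simp
    · simp only [if_true]; exact (map_ne_zero_iff _ e.injective).2 (by decide)
  obtain ⟨y, hinj, hc, py, -, hL⟩ := six_lifts S hd hb hP P H hω hω3 hσω hθ
  have hW := S.weak
  have hin : ∀ i : Fin 3, g * y (Fin.castAdd 3 i) * g⁻¹ = y (Fin.castAdd 3 i) := fun i =>
    hfr _ i ((py _).congr (by fin_cases i <;> simp [cvec, hexC]))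
  have hgL : g * (y 0 * (y 1 * (y 2 * (y 3 * (y 4 * y 5))))) * g⁻¹ = y 0 * (y 1 * (y 2 * (y 3 * (y 4 * y 5)))) := by
    rcases hL with r0 | r0 | r0 <;> rw [r0] <;>
      first | exact conj_eq_of_commute hgd | exact conj_eq_of_commute hgb | exact conj_eq_of_commute (hgd.mul_right hgb)
  have hprod : g * (y 3 * (y 4 * y 5)) * g⁻¹ = y 3 * (y 4 * y 5) := by
    have h1 : g * (y 0 * (y 1 * (y 2 * (y 3 * (y 4 * y 5))))) * g⁻¹ =
        g * y 0 * g⁻¹ * (g * y 1 * g⁻¹ * (g * y 2 * g⁻¹ * (g * (y 3 * (y 4 * y 5)) * g⁻¹))) := by group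
    rw [hgL, show g * y 0 * g⁻¹ = y 0 from hin 0, show g * y 1 * g⁻¹ = y 1 from hin 1,
      show g * y 2 * g⁻¹ = y 2 from hin 2] at h1
    exact (mul_left_cancel (mul_left_cancel (mul_left_cancel h1))).symm
  have hD : ∀ k, y k ∈ D := fun k => (py k).1.1
  have hu : u = y (Fin.natAdd 3 i) := pu.unique S hd P ((py _).congr (outer_eq e r s j i))
  have hmem := (S.cls.product_unique S.prim S.partners (m := 3) le_rfl (j := y 3 * (y 4 * y 5))
    (l := [g * y 3 * g⁻¹, g * y 4 * g⁻¹, g * y 5 * g⁻¹]) (l' := [y 3, y 4, y 5])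
    ⟨by simp [hinj.eq_iff], rfl, by simp [S.cls.conj g _ (hD _)],
      by simp [commute_conj_iff g, hc], by
        simp only [List.prod_cons, List.prod_nil, mul_one]
        conv_rhs => rw [← hprod]
        group⟩
    ⟨by simp [hinj.eq_iff], rfl, by simp [hD], by simp [hc], by simp⟩ (g * u * g⁻¹)).1
    (by fin_cases i <;> simp [hu])
  simp only [List.mem_cons, List.not_mem_nil, or_false] at hmem
  rcases hmem with r0 | r0 | r0
  · exact ⟨0, r0 ▸ (py 3).congr (outer_eq e r s j 0)⟩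
  · exact ⟨1, r0 ▸ (py 4).congr (outer_eq e r s j 1)⟩
  · exact ⟨2, r0 ▸ (py 5).congr (outer_eq e r s j 2)⟩

/-- The subgroup of the common partners moves a frame to every frame of the same determinant. -/
theorem exists_pelem (S : Setting23 D) (hd : d ∈ D) (hb : b ∈ nb D d) (P : PMap hF h (Dq D d) (qd D d b) f)
    {r s r' s' : Fin 3 → V F} (H : Hyp σ r s) (H' : Hyp σ r' s')
    (hdet : (colsMat r' s').det = (colsMat r s).det) :
    ∃ x, x ∈ Subgroup.closure (pnb D d b) ∧ ∀ y (a : Fin 6 → F), Pt hF h f y (lin r s a) →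
      Pt hF h f (x * y * x⁻¹) (lin r' s' a) := by
  obtain ⟨k, hk, hka⟩ := exists_elem P (S.quot hd).weak H H' hdet
  obtain ⟨x, hx, rfl⟩ := pair_closure S hd hb hk
  refine ⟨x, hx, fun y a hy => ⟨TypeM22.conj_nb S.weak (pnb_commute hx).1 hy.1, ?_⟩⟩
  rw [qd_conj (pnb_le hx) (mem_H hy.1)]
  exact hka _ a hy.2

/-- Adjust an element so that it fixes a frame and a first outer point. -/
theorem reduce (S : Setting23 D) (hd : d ∈ D) (hb : b ∈ nb D d) (hP : Maps hF h (Dq D d))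
    (P : PMap hF h (Dq D d) (qd D d b) f) {e : QField ≃+* F} {r s : Fin 3 → V F} (H : Hyp σ r s) {g : G}
    (hgd : Commute g d) (hgb : Commute g b) :
    ∃ k ∈ Subgroup.closure (pnb D d b), (Commute (k * g) d ∧ Commute (k * g) b) ∧
      (∀ y i, Pt hF h f y (r i) → (k * g) * y * (k * g)⁻¹ = y) ∧
      (∀ y i, Pt hF h f y (s i) → (k * g) * y * (k * g)⁻¹ = y) ∧
      ∀ y, Pt hF h f y (vq e r s (qvec 21)) → (k * g) * y * (k * g)⁻¹ = y := by
  haveI : Finite F := Nat.finite_of_card_ne_zero (by rw [hF]; norm_num)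
  have hr0 : ∀ i, r i ≠ 0 := fun i e0 => by
    have := H.rs i i; rw [e0, uh_zero_left, if_pos rfl] at this; exact zero_ne_one this
  have hs0 : ∀ i, s i ≠ 0 := fun i e0 => by
    have := H.rs i i; rw [e0, uh_zero_right, if_pos rfl] at this; exact zero_ne_one this
  choose y hy using fun i => exists_pt P (H.rr i i) (hr0 i)
  choose z hz using fun i => exists_pt P (H.ss i i) (hs0 i)
  choose p hp0 hp using fun i => exists_pvec S hd hb P (conj_pnb S hgd hgb ((hy i).mem S hd hb))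
  choose q hq0 hq using fun i => exists_pvec S hd hb P (conj_pnb S hgd hgb ((hz i).mem S hd hb))
  have hiff : ∀ {a c : G} {v w v' w' : V F}, Pt hF h f a v → Pt hF h f c w →
      Pt hF h f (g * a * g⁻¹) v' → Pt hF h f (g * c * g⁻¹) w' → (uh σ v' w' = 0 ↔ uh σ v w = 0) :=
    fun pa pc pa' pc' => ((pa'.comm S hd P pc').symm.trans (commute_conj_iff g)).trans (pa.comm S hd P pc)
  have hpp : ∀ i j, uh σ (p i) (p j) = 0 := fun i j => (hiff (hy i) (hy j) (hp i) (hp j)).2 (H.rr i j)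
  have hqq : ∀ i j, uh σ (q i) (q j) = 0 := fun i j => (hiff (hz i) (hz j) (hq i) (hq j)).2 (H.ss i j)
  have hpq : ∀ i j, uh σ (p i) (q j) = 0 ↔ i ≠ j := fun i j => (hiff (hy i) (hz j) (hp i) (hq j)).trans (by
    rw [H.rs]; split_ifs with e0 <;> simp [e0])
  have hpi : ∀ i, uh σ (p i) (q i) ≠ 0 := fun i e0 => (hpq i i).1 e0 rfl
  have H' : Hyp σ p fun i => uh σ (p i) (q i) • q i := by
    refine ⟨hpp, fun i j => by simp [uh_smul_left, uh_smul_right, hqq], fun i j => ?_⟩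
    rw [uh_smul_right]
    split_ifs with e0
    · subst e0; rw [mul_comm]; exact norm_one hF h (hpi i)
    · rw [(hpq i j).2 e0, mul_zero]
  obtain ⟨δ, hδ⟩ : ∃ δ, δ = (colsMat r s).det * ((colsMat p fun i => uh σ (p i) (q i) • q i).det)⁻¹ := ⟨_, rfl⟩
  have hδ0 : δ ≠ 0 := hδ ▸ mul_ne_zero (H.det_ne h) (inv_ne_zero (H'.det_ne h))
  have hδ3 : δ ^ 3 = 1 := by
    have := norm_one hF h hδ0
    rw [h.pow] at this
    linear_combination this
  obtain ⟨c, hc⟩ : ∃ c : Fin 3 → F, c = ![1, 1, δ ^ 2] := ⟨_, rfl⟩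
  have hc0 : ∀ i, c i ≠ 0 := fun i => by subst hc; fin_cases i <;> simp [hδ0]
  have hdet : (colsMat (fun i => c i • p i) fun i => c i • (uh σ (p i) (q i) • q i)).det = (colsMat r s).det := by
    rw [det_scale c, show (c 0 * c 1 * c 2) ^ 2 = δ by
      subst hc; simp; linear_combination δ * hδ3, hδ, inv_mul_cancel_right₀ (H'.det_ne h)]
  obtain ⟨k, hk, hka⟩ := exists_pelem S hd hb P (H'.scale hF h hc0) H hdet.symm
  have hkg : Commute (k * g) d ∧ Commute (k * g) b :=
    ⟨(pnb_commute hk).1.mul_left hgd, (pnb_commute hk).2.mul_left hgb⟩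
  have hconj : ∀ {a : G}, k * (g * a * g⁻¹) * k⁻¹ = (k * g) * a * (k * g)⁻¹ := fun {a} => by group
  have f1 : ∀ i, (k * g) * y i * (k * g)⁻¹ = y i := fun i => by
    have h1 : Pt hF h f (g * y i * g⁻¹) (lin (fun i => c i • p i) (fun i => c i • (uh σ (p i) (q i) • q i))
        (fun t => if t.val = i.val then 1 else 0)) :=
      ((hp i).smul (hc0 i)).congr (by fin_cases i <;> simp [lin])
    have h2 := hka _ _ h1
    rw [hconj] at h2
    exact Pt.unique S hd P (h2.congr (by fin_cases i <;> simp [lin])) (hy i)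
  have f2 : ∀ i, (k * g) * z i * (k * g)⁻¹ = z i := fun i => by
    have h1 : Pt hF h f (g * z i * g⁻¹) (lin (fun i => c i • p i) (fun i => c i • (uh σ (p i) (q i) • q i))
        (fun t => if t.val = i.val + 3 then 1 else 0)) :=
      (((hq i).smul (hpi i)).smul (hc0 i)).congr (by fin_cases i <;> simp [lin])
    have h2 := hka _ _ h1
    rw [hconj] at h2
    exact Pt.unique S hd P (h2.congr (by fin_cases i <;> simp [lin])) (hz i)
  have hfr : ∀ y' i, Pt hF h f y' (r i) → (k * g) * y' * (k * g)⁻¹ = y' := fun y' i h1 => by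
    rw [Pt.unique S hd P h1 (hy i), f1]
  have q21 : qvec 21 = ![1, 1, 1, 0, 0, 0] := by decide
  have h21 : uh σ (vq e r s (qvec 21)) (vq e r s (qvec 21)) = 0 := by
    rw [H.vq_uh h, show bform qsig (qvec 21) (qvec 21) = 0 by decide, map_zero]
  obtain ⟨u, hu⟩ := exists_pt P h21 fun e0 => by
    have := congrArg (fun v => uh σ v (s 0)) e0
    simp [q21, vq, lin, uh_add_left, uh_smul_left, H.rs, H.ss, uh_zero_left] at this
  obtain ⟨m, hum⟩ := mark S hd hb hP P H hkg.1 hkg.2 hfr false 0 (u := u) hu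
  have hm' : ∃ τ : Fin 3 → QField, (∀ i, τ i ≠ 0) ∧ (τ 0 * τ 1 * τ 2) ^ 2 = 1 ∧
      qvec (outer false m) = ![τ 0, τ 1, τ 2, 0, 0, 0] := by
    fin_cases m
    · exact ⟨![1, 1, 1], by decide, by decide, by decide⟩
    · exact ⟨![1, ⟨2⟩, ⟨3⟩], by decide, by decide, by decide⟩
    · exact ⟨![1, ⟨3⟩, ⟨2⟩], by decide, by decide, by decide⟩
  obtain ⟨τ, hτ0, hτd, hmv⟩ := hm'
  have hτF : ∀ i, e (τ i) ≠ 0 := fun i => (map_ne_zero_iff _ e.injective).2 (hτ0 i)
  obtain ⟨k', hk', hka'⟩ := exists_pelem S hd hb P (H.scale hF h hτF) H (by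
    rw [det_scale, ← map_mul, ← map_mul, ← map_pow, hτd, map_one, one_mul])
  refine ⟨k' * k, mul_mem hk' hk, ?_, ?_, ?_, ?_⟩
  · rw [mul_assoc]; exact ⟨(pnb_commute hk').1.mul_left hkg.1, (pnb_commute hk').2.mul_left hkg.2⟩
  · intro y' i h1
    rw [show k' * k * g * y' * (k' * k * g)⁻¹ = k' * (k * g * y' * (k * g)⁻¹) * k'⁻¹ by group, hfr y' i h1]
    have h2 : Pt hF h f y' (lin (fun i => e (τ i) • r i) (fun i => e (τ i) • s i)
        (fun t => if t.val = i.val then 1 else 0)) :=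
      ((h1.smul (hτF i))).congr (by fin_cases i <;> simp [lin])
    exact Pt.unique S hd P ((hka' _ _ h2).congr (by fin_cases i <;> simp [lin])) h1
  · intro y' i h1
    have h3 : k * g * y' * (k * g)⁻¹ = y' := by rw [Pt.unique S hd P h1 (hz i), f2]
    rw [show k' * k * g * y' * (k' * k * g)⁻¹ = k' * (k * g * y' * (k * g)⁻¹) * k'⁻¹ by group, h3]
    have h2 : Pt hF h f y' (lin (fun i => e (τ i) • r i) (fun i => e (τ i) • s i)
        (fun t => if t.val = i.val + 3 then 1 else 0)) :=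
      ((h1.smul (hτF i))).congr (by fin_cases i <;> simp [lin])
    exact Pt.unique S hd P ((hka' _ _ h2).congr (by fin_cases i <;> simp [lin])) h1
  · intro y' h1
    rw [show k' * k * g * y' * (k' * k * g)⁻¹ = k' * (k * g * y' * (k * g)⁻¹) * k'⁻¹ by group,
      Pt.unique S hd P h1 hu]
    have h2 : Pt hF h f (k * g * u * (k * g)⁻¹) (lin (fun i => e (τ i) • r i) (fun i => e (τ i) • s i)
        (fun t => if t.val < 3 then 1 else 0)) :=
      hum.congr (by simp [hmv, vq, lin])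
    exact Pt.unique S hd P ((hka' _ _ h2).congr (by simp [q21, vq, lin])) hu

/-- The conjugation agrees with a field map on the point with these coordinates. -/
def PAgrees (hF : Nat.card F = 2 ^ 2) (h : UFrob σ 2)
    (f : Subgroup.closure (nb (Dq D d) (qd D d b)) →* PSU 6 F 2) (e : QField ≃+* F) (r s : Fin 3 → V F)
    (ψ : QField →+* QField) (g : G) (a : Fin 6 → QField) : Prop :=
  bform qsig a a = 0 ∧ a ≠ 0 ∧
    ∀ y, Pt hF h f y (vq e r s a) → Pt hF h f (g * y * g⁻¹) (vq e r s fun t => ψ (a t))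

/-- Agreement on nine points is agreement on all. -/
theorem pagree_all (S : Setting23 D) (hd : d ∈ D) (P : PMap hF h (Dq D d) (qd D d b) f) {e : QField ≃+* F}
    {r s : Fin 3 → V F} (H : Hyp σ r s) {ψ : QField →+* QField} (hψ : ∀ x, ψ (qsig x) = qsig (ψ x)) {g : G}
    (hseed : ∀ k < 9, PAgrees hF h f e r s ψ g (qvec (steps.getD k (0, 0, 0)).1))
    {c : ℕ} (hc : c < 4096) (hc0 : c ≠ 0) (hiso : isoN c = true) : PAgrees hF h f e r s ψ g (qvec c) := by
  haveI : Finite F := Nat.finite_of_card_ne_zero (by rw [hF]; norm_num)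
  refine closure_all (PAgrees hF h f e r s ψ g) (fun x v hx ⟨hv, hv0, hA⟩ => ?_)
    (fun v w ⟨hv, hv0, hA⟩ ⟨hw, hw0, hB⟩ => ?_) hseed hc hc0 hiso
  · refine ⟨?_, fun e0 => hv0 (funext fun t => (mul_eq_zero.1 (congrFun e0 t)).resolve_left hx), fun y hy => ?_⟩
    · apply e.injective
      rw [← H.vq_uh h, vq_smul, uh_smul_left, uh_smul_right, H.vq_uh h, hv, map_zero]
      simp
    · have hy' := (hy.congr (vq_smul v x)).smul (inv_ne_zero ((map_ne_zero_iff _ e.injective).2 hx))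
      rw [inv_smul_smul₀ ((map_ne_zero_iff _ e.injective).2 hx)] at hy'
      refine ((hA y hy').smul (a := e (ψ x)) ((map_ne_zero_iff _ e.injective).2 ((map_ne_zero ψ).2 hx))).congr ?_
      rw [← vq_smul]
      simp only [map_mul]
  · have hiv : uh σ (vq e r s v) (vq e r s v) = 0 := by rw [H.vq_uh h, hv, map_zero]
    have hiw : uh σ (vq e r s w) (vq e r s w) = 0 := by rw [H.vq_uh h, hw, map_zero]
    obtain ⟨y, hy⟩ := exists_pt P hiv fun e0 => hv0 (H.vq_inj h (e0.trans vq_zero.symm))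
    obtain ⟨z, hz⟩ := exists_pt P hiw fun e0 => hw0 (H.vq_inj h (e0.trans vq_zero.symm))
    have hyz := hy.conj S hd hz
    rw [H.vq_uh h, ← vq_add] at hyz
    refine ⟨e.injective (by rw [← H.vq_uh h, map_zero]; exact hyz.iso), fun e0 => ?_, fun x hx => ?_⟩
    · have h1 : vq e r s w + e (bform qsig w v) • vq e r s v = 0 := by
        rw [← vq_add, e0, vq_zero]
      have h2 : uh σ (vq e r s w) (vq e r s v) = 0 := by
        have h3 := congrArg (fun u => uh σ u (vq e r s v)) h1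
        simpa [uh_add_left, uh_smul_left, hiv, uh_zero_left] using h3
      rw [← H.vq_uh h, h2, zero_smul, add_zero, ← vq_zero (e := e) (r := r) (s := s)] at h1
      exact hw0 (H.vq_inj h h1)
    · have hx' := ((hA y hy).conj S hd (hB z hz))
      rw [H.vq_uh h, ← vq_add] at hx'
      have he : g * x * g⁻¹ = g * y * g⁻¹ * (g * z * g⁻¹) * (g * y * g⁻¹) := by
        rw [Pt.unique S hd P hx hyz]; group
      rw [he]
      refine hx'.congr (congrArg _ (funext fun t => ?_))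
      simp [bform, hψ]

/-- An element centralising two members fixes, up to the group of their partners, all common partners. -/
theorem fix_pair (S : Setting23 D) (hd : d ∈ D) (hb : b ∈ nb D d) (hP : Maps hF h (Dq D d))
    (P : PMap hF h (Dq D d) (qd D d b) f) {g : G} (hgd : Commute g d) (hgb : Commute g b) :
    ∃ k ∈ Subgroup.closure (pnb D d b), (Commute (k * g) d ∧ Commute (k * g) b) ∧
      ∀ y ∈ pnb D d b, Commute (k * g) y := by
  haveI : Finite F := Nat.finite_of_card_ne_zero (by rw [hF]; norm_num)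
  obtain ⟨e⟩ := exists_coord hF
  obtain ⟨r, s, H⟩ := exists_frame hF h
  obtain ⟨k, hk, hkg, hfr, hfs, h21⟩ := reduce S hd hb hP P (e := e) H hgd hgb
  refine ⟨k, hk, hkg, ?_⟩
  obtain ⟨x, hxdef⟩ : ∃ x, x = k * g := ⟨_, rfl⟩
  rw [← hxdef] at hkg hfr hfs h21 ⊢
  have hmk : ∀ c, isoN c = true → c < 4096 → c ≠ 0 → ∃ y, Pt hF h f y (vq e r s (qvec c)) := fun c k1 k2 k3 => by
    obtain ⟨a, b, -, -⟩ := cv_props e H h k2
    exact exists_pt P (b.2 k1) (a.2 (by rw [Bool.not_eq_true', ← Bool.not_eq_true, nat_beq_iff]; exact k3))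
  obtain ⟨u, hu⟩ := hmk 21 (by decide) (by decide) (by decide)
  obtain ⟨u', hu'⟩ := hmk 57 (by decide) (by decide) (by decide)
  obtain ⟨m, hum⟩ := mark S hd hb hP P H hkg.1 hkg.2 hfr false 1 (u := u') hu'
  have hm21 : m ≠ 0 := fun e0 => by
    subst e0
    have h1 : x * u' * x⁻¹ = x * u * x⁻¹ := (Pt.unique S hd P hum hu).trans (h21 u hu).symm
    have h2 : u' = u := mul_left_cancel (mul_right_cancel h1)
    obtain ⟨a, ha⟩ := hu'.eq_smul (h2.symm ▸ hu) (fun e1 => absurd (H.vq_inj h (e1.trans vq_zero.symm)) (by decide))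
    obtain ⟨a', rfl⟩ := e.surjective a
    rw [← vq_smul] at ha
    exact (show ∀ a' : QField, qvec 57 ≠ fun t => a' * qvec 21 t by decide) a' (H.vq_inj h ha)
  obtain ⟨ψ, hψ, hψ57, hψc⟩ : ∃ ψ : QField →+* QField, (∀ z, ψ (qsig z) = qsig (ψ z)) ∧
      (fun t => ψ (qvec 57 t)) = qvec (outer false m) ∧ (ψ = RingHom.id _ ∨ ψ = qsig) := by
    fin_cases m
    · exact absurd rfl hm21
    · exact ⟨RingHom.id _, fun _ => rfl, rfl, Or.inl rfl⟩
    · exact ⟨qsig, fun _ => rfl, by decide, Or.inr rfl⟩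
  have hrat : ∀ c, (∀ t, qvec c t = 0 ∨ qvec c t = 1) → (fun t => ψ (qvec c t)) = qvec c := fun c hc =>
    funext fun t => by rcases hc t with r | r <;> simp [r]
  have hag : ∀ c, isoN c = true → c < 4096 → c ≠ 0 →
      (∀ y, Pt hF h f y (vq e r s (qvec c)) → Pt hF h f (x * y * x⁻¹) (vq e r s fun t => ψ (qvec c t))) →
      PAgrees hF h f e r s ψ x (qvec c) := fun c k1 k2 k3 hh =>
    ⟨(isoN_iff k2).2 k1, fun e0 => k3 (congrArg Fin.val (qvec_bij.1 (a₁ := ⟨c, k2⟩) (a₂ := ⟨0, by norm_num⟩)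
      (e0.trans (show (0 : Fin 6 → QField) = qvec 0 by decide)))), hh⟩
  have hfix : ∀ c, isoN c = true → c < 4096 → c ≠ 0 → (∀ t, qvec c t = 0 ∨ qvec c t = 1) →
      (∀ y, Pt hF h f y (vq e r s (qvec c)) → x * y * x⁻¹ = y) → PAgrees hF h f e r s ψ x (qvec c) :=
    fun c k1 k2 k3 k4 hh => hag c k1 k2 k3 fun y hy => by rw [hh y hy, hrat c k4]; exact hy
  have hf110 : ∀ y, Pt hF h f y (vq e r s (qvec 320)) → x * y * x⁻¹ = y := by
    intro y hy
    obtain ⟨v, hv0, hv⟩ := exists_pvec S hd hb P (conj_pnb S hkg.1 hkg.2 (hy.mem S hd hb))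
    have hs0 : ∀ i, s i ≠ 0 := fun i e0 => by
      have := H.rs i i; rw [e0, uh_zero_right, if_pos rfl] at this; exact zero_ne_one this
    have hr0 : ∀ i, r i ≠ 0 := fun i e0 => by
      have := H.rs i i; rw [e0, uh_zero_left, if_pos rfl] at this; exact zero_ne_one this
    have q : qvec 320 = ![0, 0, 0, 1, 1, 0] ∧ qvec 21 = ![1, 1, 1, 0, 0, 0] := by decide
    have hperp : ∀ {z : G} {w : V F}, Pt hF h f z w → x * z * x⁻¹ = z → uh σ (vq e r s (qvec 320)) w = 0 →
        uh σ v w = 0 := fun {z w} hz hxz h0 => (hv.comm S hd P hz).1 (by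
      rw [← hxz]; exact (commute_conj_iff x).2 ((hy.comm S hd P hz).2 h0))
    choose z hz using fun i => exists_pt P (H.ss i i) (hs0 i)
    obtain ⟨w2, hw2⟩ := exists_pt P (H.rr 2 2) (hr0 2)
    have v_s : ∀ i, uh σ v (s i) = 0 := fun i => hperp (hz i) (hfs _ i (hz i)) (by
      simp [q, vq, lin, uh_add_left, H.ss])
    have v2 : uh σ v (r 2) = 0 := hperp hw2 (hfr _ 2 hw2) (by simp [q, vq, lin, uh_add_left, H.sr h])
    have vu : uh σ v (vq e r s (qvec 21)) = 0 := hperp hu (h21 u hu) (by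
      simp [q, vq, lin, uh_add_left, uh_add_right, H.sr h, add_self hF])
    simp [q, vq, lin, uh_add_right, v2] at vu
    have h01 : uh σ v (r 1) = uh σ v (r 0) := by linear_combination vu - add_self hF (uh σ v (r 0))
    have e1 : v = uh σ v (r 0) • vq e r s (qvec 320) := by
      conv_lhs => rw [H.expand h v]
      simp [Fin.sum_univ_three, v_s, v2, h01, q, vq, lin, smul_add]
    have hne : uh σ v (r 0) ≠ 0 := fun e0 => hv0 (by rw [e1, e0, zero_smul])
    exact Pt.unique S hd P (hv.congr e1) (hy.smul hne)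
  have hseed : ∀ k < 9, PAgrees hF h f e r s ψ x (qvec (steps.getD k (0, 0, 0)).1) := by
    intro k hk
    have hmem : (steps.getD k (0, 0, 0)).1 ∈ ([1, 4, 16, 64, 256, 1024, 21, 57, 320] : List ℕ) := by
      rw [← seed_codes]; exact List.mem_map.2 ⟨k, List.mem_range.2 hk, rfl⟩
    have q : qvec 1 = ![1, 0, 0, 0, 0, 0] ∧ qvec 4 = ![0, 1, 0, 0, 0, 0] ∧ qvec 16 = ![0, 0, 1, 0, 0, 0] ∧
        qvec 64 = ![0, 0, 0, 1, 0, 0] ∧ qvec 256 = ![0, 0, 0, 0, 1, 0] ∧ qvec 1024 = ![0, 0, 0, 0, 0, 1] := by decide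
    simp only [List.mem_cons, List.not_mem_nil, or_false] at hmem
    rcases hmem with e0 | e0 | e0 | e0 | e0 | e0 | e0 | e0 | e0 <;> rw [e0]
    · exact hfix _ (by decide) (by decide) (by decide) (by decide) fun y hy => hfr y 0 (hy.congr (by simp [q, vq, lin]))
    · exact hfix _ (by decide) (by decide) (by decide) (by decide) fun y hy => hfr y 1 (hy.congr (by simp [q, vq, lin]))
    · exact hfix _ (by decide) (by decide) (by decide) (by decide) fun y hy => hfr y 2 (hy.congr (by simp [q, vq, lin]))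
    · exact hfix _ (by decide) (by decide) (by decide) (by decide) fun y hy => hfs y 0 (hy.congr (by simp [q, vq, lin]))
    · exact hfix _ (by decide) (by decide) (by decide) (by decide) fun y hy => hfs y 1 (hy.congr (by simp [q, vq, lin]))
    · exact hfix _ (by decide) (by decide) (by decide) (by decide) fun y hy => hfs y 2 (hy.congr (by simp [q, vq, lin]))
    · exact hfix _ (by decide) (by decide) (by decide) (by decide) h21
    · refine hag _ (by decide) (by decide) (by decide) fun y hy => ?_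
      rw [hψ57, Pt.unique S hd P hy hu']; exact hum
    · exact hfix _ (by decide) (by decide) (by decide) (by decide) hf110
  rcases hψc with rfl | rfl
  · intro y hy
    obtain ⟨v, hv0, hv⟩ := exists_pvec S hd hb P hy
    obtain ⟨c, hc⟩ := (H.cv_bij h e).2 v
    replace hc : cv e r s c.val = v := hc
    obtain ⟨a, b, -, -⟩ := cv_props e H h c.2
    have hc0 : c.val ≠ 0 := fun e0 => by have := a.1 (hc ▸ hv0); simp [e0] at this
    have h1 := (pagree_all S hd P H hψ hseed c.2 hc0 (b.1 (hc ▸ hv.iso))).2.2 y (hv.congr hc.symm)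
    exact mul_inv_eq_iff_eq_mul.1 (Pt.unique S hd P h1 (hv.congr hc.symm))
  · exfalso
    obtain ⟨w, hw⟩ := hmk 37 (by decide) (by decide) (by decide)
    obtain ⟨m', hm'⟩ := mark S hd hb hP P H hkg.1 hkg.2 hfr true 0 (u := w) hw
    have h1 := (pagree_all S hd P H hψ hseed (c := 37) (by decide) (by decide) (by decide)).2.2 w hw
    obtain ⟨a, ha⟩ := h1.eq_smul hm' (fun e1 => absurd (H.vq_inj h (e1.trans vq_zero.symm)) (by decide))
    obtain ⟨a', rfl⟩ := e.surjective a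
    rw [← vq_smul] at ha
    exact (show ∀ (a' : QField) (i : Fin 3), (fun t => qsig (qvec 37 t)) ≠ fun t => a' * qvec (outer true i) t by
      decide) a' m' (H.vq_inj h ha)

end CfsgLib.KnownB.TypeM23
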