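import Cfsg.Agent.Lib.KnownB.TypeM23.Quot
import Cfsg.Agent.Lib.KnownB.TypeM22.Tuples
import Cfsg.Agent.Lib.KnownB.TypeM23.Auto

/-!
A group of type M(23) has 31671 members.
-/

set_option autoImplicit false

namespace CfsgLib.KnownB.TypeM23

open Cfsg CfsgLib.Classical.Unitary CfsgLib.ThreeTransp CfsgLib.Involutions
open CfsgLib.ThreeTransp.LocalThree
open CfsgLib.KnownB.TypeM22

universe u

variable {G : Type u} [Group G] [Finite G] {D : Set G}

theorem Setting23.quot (S : Setting23 D) {d : G} (hd : d ∈ D) : TypeM22.Setting (Dq D d) := by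
  have hW : WeakTS (Dq D d) := (S.weak.sub d).quot _
  have ht := S.typ_all hd
  have hne : ∀ {y}, y ∈ nb D d → qd D d y ≠ 1 := fun {y} hy h1 => by
    obtain ⟨z, hz, hn⟩ := S.cls.not_central_nb S.pCore_two hd hy
    exact hn ((qd_eq_one (mem_H hy)).1 h1 z hz)
  have htr : ∀ x ∈ Dq D d, ∀ y ∈ Dq D d, ∃ k, k * x * k⁻¹ = y := fun x hx y hy => by
    obtain ⟨x', hx', rfl⟩ := dq_exists hx
    obtain ⟨y', hy', rfl⟩ := dq_exists hy
    clear hx hy
    rename' hx' => hx, hy' => hy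
    obtain ⟨h, hh, e⟩ := S.cls.orb_nb S.prim hd hx hy
    exact ⟨qd D d h, by rw [← qd_conj hh (mem_H hx), e]⟩
  obtain ⟨a, ha, b, hb, hab, cab⟩ := pair_of_typeM22 ht
  have hC : TClass (Dq D d) := by
    haveI := Fact.mk Nat.prime_two
    refine ⟨⟨fun x hx => ?_, hW.prod⟩, hW.conj, hW.gen, htr, a, ha, b, hb, hab⟩
    refine orderOf_eq_prime (by rw [pow_two, hW.sq x hx]) ?_
    obtain ⟨y, hy, rfl⟩ := dq_exists hx
    exact hne hy
  have hcon : ∀ x ∈ Dq D d, ∀ y ∈ Dq D d, CReach (Dq D d) x y := fun x hx y hy => by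
    obtain ⟨x', hx', rfl⟩ := dq_exists hx
    obtain ⟨y', hy', rfl⟩ := dq_exists hy
    clear hx hy
    rename' hx' => hx, hy' => hy, x' => x, y' => y
    by_cases hc : Commute x y
    · exact Relation.ReflTransGen.single ⟨qd_mem hx, qd_mem hy, (S.qd_comm hd hx hy).2 hc⟩
    · obtain ⟨z, hz, c1, c2⟩ := S.exists_common hd hx hy hc
      exact (Relation.ReflTransGen.single ⟨qd_mem hx, qd_mem hz, (S.qd_comm hd hx hz).2 c1⟩).trans
        (Relation.ReflTransGen.single ⟨qd_mem hz, qd_mem hy, ((S.qd_comm hd hy hz).2 c2).symm⟩)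
  refine ⟨hC, ((hC.simple_iff_primitive ht.1 ⟨a, ha, b, hb, hab, cab⟩).2).2
    ⟨pCore_bot_of_typeM22 hW ht, pCore_three_bot hC ht hcon, (connected_iff_creach ⟨a, ha⟩).2 hcon⟩, hasPointsType_of_typeM22 ht⟩

/-- The images of a set of partners. -/
theorem Setting23.ncard_image (S : Setting23 D) {d : G} (hd : d ∈ D) {T : Set G} (hT : T ⊆ nb D d) :
    (qd D d '' T).ncard = T.ncard :=
  Set.ncard_image_of_injOn fun _ hx _ hy e => S.qd_inj hd (hT hx) (hT hy) e

theorem Setting23.image_nb (S : Setting23 D) {d w : G} (hd : d ∈ D) (hw : w ∈ nb D d) :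
    qd D d '' (nb D d ∩ nb D w) = nb (Dq D d) (qd D d w) := by
  ext z
  constructor
  · rintro ⟨y, ⟨hy, hyw⟩, rfl⟩
    exact ⟨qd_mem hy, fun e => hyw.2.1 (S.qd_inj hd hy hw e), (S.qd_comm hd hw hy).2 hyw.2.2⟩
  · rintro ⟨hz, hne, hc⟩
    obtain ⟨y, hy, rfl⟩ := dq_exists hz
    exact ⟨y, ⟨hy, hy.1, fun e => hne (congrArg _ e), (S.qd_comm hd hw hy).1 hc⟩, rfl⟩

theorem Setting23.image_two (S : Setting23 D) {d v w : G} (hd : d ∈ D) (hv : v ∈ nb D d) (hw : w ∈ nb D d) :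
    qd D d '' (nb D d ∩ (nb D v ∩ nb D w)) = nb (Dq D d) (qd D d v) ∩ nb (Dq D d) (qd D d w) := by
  rw [← S.image_nb hd hv, ← S.image_nb hd hw]
  ext z
  constructor
  · rintro ⟨y, ⟨hy, hyv, hyw⟩, rfl⟩
    exact ⟨⟨y, ⟨hy, hyv⟩, rfl⟩, y, ⟨hy, hyw⟩, rfl⟩
  · rintro ⟨⟨y, ⟨hy, hyv⟩, rfl⟩, y', ⟨hy', hyw⟩, e⟩
    exact ⟨y, ⟨hy, hyv, S.qd_inj hd hy' hy e ▸ hyw⟩, rfl⟩

/-- The three numbers inside the partners of a member. -/
theorem Setting23.local_counts (S : Setting23 D) {d : G} (hd : d ∈ D) :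
    (nb D d).ncard = 3510 ∧ (∀ w ∈ nb D d, (nb D d ∩ nb D w).ncard = 693) ∧
    (∀ v ∈ nb D d, ∀ w ∈ nb D d ∩ nb D v, (nb D d ∩ (nb D v ∩ nb D w)).ncard = 180) ∧
    ∀ v ∈ nb D d, ∀ w ∈ nb D d, ¬ Commute v w → (nb D d ∩ (nb D v ∩ nb D w)).ncard = 126 := by
  obtain ⟨F, _, _, σ, hF, h, hP⟩ := (S.quot hd).exists_pmap
  obtain ⟨h1, h2, h3, -⟩ := (S.quot hd).counts hP
  refine ⟨?_, fun w hw => ?_, fun v hv w hw => ?_, fun v hv w hw hn => ?_⟩
  · rw [← S.ncard_image hd subset_rfl, ← h1]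
    congr 1
    ext z
    exact ⟨fun ⟨y, hy, e⟩ => e ▸ qd_mem hy, fun hz => dq_exists hz⟩
  · rw [← S.ncard_image hd Set.inter_subset_left, S.image_nb hd hw, h2 _ (qd_mem hw)]
  · rw [← S.ncard_image hd Set.inter_subset_left, S.image_two hd hv hw.1]
    refine (S.quot hd).inter_ncard hP (qd_mem hv) ?_
    rw [← S.image_nb hd hv]
    exact ⟨w, hw, rfl⟩
  · rw [← S.ncard_image hd Set.inter_subset_left, S.image_two hd hv hw]
    have hn' : ¬ Commute (qd D d v) (qd D d w) := fun hc => hn ((S.qd_comm hd hv hw).1 hc)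
    rw [← both_eq_inter hn']
    exact h3 _ (qd_mem hv) _ (qd_mem hw) hn'

theorem arith_check : ((List.range 3511).all fun m =>
    !Nat.beq (9884160 % m) 0 || Nat.beq m 351 || Nat.beq m 715 || (
      let u : ℤ := (m : ℤ) - 693
      let v : ℤ := 3511 + ((9884160 / m : ℕ) : ℤ)
      let Δ : ℤ := u * u + 4 * (3510 - (m : ℤ))
      let δ : ℤ := (Nat.sqrt Δ.toNat : ℕ)
      decide (0 < Δ) && decide (u * v - (2 * 3510 + u) ≠ 0) && (decide (δ * δ ≠ Δ) ||
        decide ((u * v - (2 * 3510 + u)) % δ ≠ 0)))) = true := by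
  decide +kernel

/-- The largest candidate fails the variance inequality. -/
theorem not_715 (S : Setting23 D) {a c : G} (ha : a ∈ D) (hc : c ∈ D) (hn : ¬ Commute a c)
    (h715 : (nb D a ∩ nb D c).ncard = 715) : False := by
  classical
  haveI : Fintype G := Fintype.ofFinite G
  obtain ⟨hk, hlam, h180, h126⟩ := S.local_counts ha
  obtain ⟨V, hV⟩ : ∃ V : Finset G, ∀ y, y ∈ V ↔ y ∈ nb D a := ⟨(nb D a).toFinset, fun y => Set.mem_toFinset⟩
  obtain ⟨T, hT⟩ : ∃ T : Finset G, ∀ y, y ∈ T ↔ y ∈ nb D a ∩ nb D c :=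
    ⟨(nb D a ∩ nb D c).toFinset, fun y => Set.mem_toFinset⟩
  have hcard : ∀ (U : Finset G) (P : G → Prop) [DecidablePred P] (W : Set G), (∀ y, y ∈ U ∧ P y ↔ y ∈ W) →
      (U.filter P).card = W.ncard := fun U P _ W hh => by
    rw [← Set.ncard_coe_finset]
    exact congrArg Set.ncard (Set.ext fun y => by rw [Finset.mem_coe, Finset.mem_filter]; exact hh y)
  obtain ⟨f, hf⟩ : ∃ f : G → ℕ, ∀ y, f y = ∑ x ∈ T, if y ∈ nb D x then 1 else 0 := ⟨_, fun _ => rfl⟩
  have hTsub : T ⊆ V := fun y hy => (hV y).2 ((hT y).1 hy).1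
  have hTc : T.card = 715 := by
    rw [← h715, ← Set.ncard_coe_finset]; exact congrArg Set.ncard (Set.ext hT)
  have hVc : V.card = 3510 := by
    rw [← hk, ← Set.ncard_coe_finset]; exact congrArg Set.ncard (Set.ext hV)
  have hin : ∀ x ∈ T, (T.filter fun y => y ∈ nb D x).card = 126 := fun x hx => by
    obtain ⟨hxa, hxc⟩ := (hT x).1 hx
    have ax := LocalThree.nb_symm ha hxa
    have cx := LocalThree.nb_symm hc hxc
    rw [hcard T (fun y => y ∈ nb D x) (nb D x ∩ (nb D a ∩ nb D c)) fun y => by rw [hT]; exact ⟨fun h => ⟨h.2, h.1⟩, fun h => ⟨h.2, h.1⟩⟩]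
    exact (S.local_counts hxa.1).2.2.2 a ax c cx hn
  have hfT : ∀ x ∈ T, f x = 126 := fun x hx => by
    rw [hf, ← hin x hx, Finset.sum_boole, Nat.cast_id]
    congr 1
    refine Finset.filter_congr fun y hy => ⟨fun h => LocalThree.nb_symm ((hT y).1 hy).1.1 h, fun h => LocalThree.nb_symm ((hT x).1 hx).1.1 h⟩
  have hsum : ∑ y ∈ V, f y = 495495 := by
    simp only [hf]
    rw [Finset.sum_comm, Finset.sum_congr rfl (g := fun _ => 693), Finset.sum_const, hTc, smul_eq_mul]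
    intro x hx
    rw [Finset.sum_boole, Nat.cast_id, hcard V (fun y => y ∈ nb D x) (nb D a ∩ nb D x) fun y => by rw [hV]; rfl]
    exact hlam x ((hT x).1 hx).1
  have hsq : ∑ y ∈ V, f y * f y = 69684615 := by
    simp only [hf, Finset.sum_mul_sum, ite_zero_mul_ite_zero, mul_one]
    rw [Finset.sum_comm, Finset.sum_congr rfl (g := fun _ => 97461), Finset.sum_const, hTc, smul_eq_mul]
    intro x hx
    rw [Finset.sum_comm]
    have hg : ∀ z ∈ T, (∑ y ∈ V, if y ∈ nb D x ∧ y ∈ nb D z then 1 else 0) =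
        126 + (if z ∈ nb D x then 54 else 0) + (if z = x then 567 else 0) := by
      intro z hz
      obtain ⟨hxa, -⟩ := (hT x).1 hx
      obtain ⟨hza, -⟩ := (hT z).1 hz
      rw [Finset.sum_boole, Nat.cast_id, hcard V (fun y => y ∈ nb D x ∧ y ∈ nb D z) (nb D a ∩ (nb D x ∩ nb D z)) fun y => by rw [hV]; rfl]
      rcases eq_or_ne z x with rfl | hne
      · rw [if_neg fun h => h.2.1 rfl, if_pos rfl, Set.inter_self, hlam z hza]
      · rw [if_neg hne, add_zero]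
        by_cases hzx : z ∈ nb D x
        · rw [if_pos hzx, h180 x hxa z ⟨hza, hzx⟩]
        · rw [if_neg hzx, h126 x hxa z hza fun h => hzx ⟨hza.1, hne, h⟩]
    rw [Finset.sum_congr rfl hg, Finset.sum_add_distrib, Finset.sum_add_distrib, Finset.sum_const, hTc,
      ← Finset.sum_filter, Finset.sum_const, hin x hx, Finset.sum_ite_eq', if_pos hx]
    norm_num
  rw [← Finset.sum_sdiff hTsub, Finset.sum_congr rfl hfT, Finset.sum_const, hTc] at hsum
  rw [← Finset.sum_sdiff hTsub, Finset.sum_congr rfl (s₁ := T) (g := fun _ => 126 * 126)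
    (fun x hx => by rw [hfT x hx]), Finset.sum_const, hTc] at hsq
  have hdc : (V \ T).card = 2795 := by rw [Finset.card_sdiff_of_subset hTsub, hTc, hVc]
  have hCS := sq_sum_le_card_mul_sum_sq (s := V \ T) (f := fun y => (f y : ℤ))
  have e1 : (∑ y ∈ V \ T, (f y : ℤ)) = 405405 := by
    have : ∑ y ∈ V \ T, f y = 405405 := by simp only [smul_eq_mul] at hsum; omega
    exact_mod_cast this
  have e2 : (∑ y ∈ V \ T, (f y : ℤ) ^ 2) = 58333275 := by
    have : ∑ y ∈ V \ T, f y * f y = 58333275 := by simp only [smul_eq_mul] at hsq; omega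
    simp only [pow_two]
    exact_mod_cast this
  rw [e1, e2, hdc] at hCS
  norm_num at hCS

/-- The numbers of a group of type M(23). -/
theorem Setting23.counts (S : Setting23 D) :
    D.ncard = 31671 ∧ (∀ a ∈ D, ∀ c ∈ D, ¬ Commute a c → (both D a c).ncard = 351) ∧
      ∀ d ∈ D, {x | x ∈ D ∧ ¬ Commute d x}.ncard = 28160 := by
  have hk : ∀ v ∈ D, (nb D v).ncard = 3510 := fun v hv => (S.local_counts hv).1
  have hlam : ∀ v ∈ D, ∀ w ∈ nb D v, (nb D v ∩ nb D w).ncard = 693 := fun v hv => (S.local_counts hv).2.1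
  obtain ⟨d₁, hd₁, b, hb, hne, hdb⟩ := S.exists_pair
  obtain ⟨c, hc, hdc⟩ := S.cls.exists_noncommute hd₁
  have hdc' : ¬ Commute d₁ c := fun e => hdc e.symm
  obtain ⟨mu, hmu⟩ : ∃ mu, (both D d₁ c).ncard = mu := ⟨_, rfl⟩
  have hsame : ∀ v ∈ D, ∀ w ∈ D, ¬ Commute v w → (both D v w).ncard = mu := fun v hv w hw hvw => by
    obtain ⟨g, hg⟩ := S.cls.trans v hv d₁ hd₁
    have h1 : ¬ Commute d₁ (g * w * g⁻¹) := fun e => hvw ((commute_conj_iff g).1 (hg.symm ▸ e))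
    rw [S.cls.both_ncard ⟨g, hg, rfl⟩, ← hmu]
    exact S.cls.both_ncard (S.cls.rank_three S.prim S.exists_pair hd₁ (S.cls.conj g w hw) hc h1 hdc')
  have hmu' : ∀ v ∈ D, ∀ w ∈ D, ¬ Commute v w → (nb D v ∩ nb D w).ncard = mu := fun v hv w hw hvw => by
    rw [← both_eq_inter hvw]; exact hsame v hv w hw hvw
  have hA : ∀ d ∈ D, {x | x ∈ D ∧ ¬ Commute d x}.ncard * mu = 9884160 := fun d hd => by
    have h1 := double_count (nb D d) {x | x ∈ D ∧ ¬ Commute d x} Commute 2816 mu (fun y hy => ?_) fun x hx => ?_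
    · rw [hk d hd] at h1; omega
    · have h2 : {t | t ∈ {x | x ∈ D ∧ ¬ Commute d x} ∧ Commute y t} =
          nb D y \ insert d (nb D y ∩ nb D d) := by
        ext t
        simp only [Set.mem_setOf_eq, Set.mem_sdiff, Set.mem_insert_iff, Set.mem_inter_iff, nb]
        constructor
        · rintro ⟨⟨ht, hn⟩, hc⟩
          refine ⟨⟨ht, fun e => hn (e ▸ hy.2.2), hc⟩, ?_⟩
          rintro (rfl | ⟨-, -, -, hh⟩)
          · exact hn (Commute.refl _)
          · exact hn hh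
        · rintro ⟨⟨ht, hne, hc⟩, hno⟩
          exact ⟨⟨ht, fun hh => hno ((eq_or_ne t d).imp id fun ne => ⟨⟨ht, hne, hc⟩, ht, ne, hh⟩)⟩, hc⟩
      rw [h2, Set.ncard_sdiff (Set.insert_subset (LocalThree.nb_symm hd hy) Set.inter_subset_left),
        Set.ncard_insert_of_notMem fun hh => hh.2.2.1 rfl, hk y hy.1, hlam y hy.1 d (LocalThree.nb_symm hd hy)]
    · rw [← hsame d hd x hx.1 hx.2, ← show nb D d ∩ nb D x = both D d x from (both_eq_inter hx.2).symm]
      congr 1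
      ext s
      exact ⟨fun hs => ⟨hs.1, hs.1.1, fun e => hx.2 (e ▸ hs.1.2.2), hs.2.symm⟩, fun hs => ⟨hs.1, hs.2.2.2.symm⟩⟩
  have hD : ∀ d ∈ D, D.ncard = 3511 + {x | x ∈ D ∧ ¬ Commute d x}.ncard := fun d hd => by
    have e : D = insert d (nb D d) ∪ {x | x ∈ D ∧ ¬ Commute d x} := by
      ext x
      exact ⟨fun hx => by
        by_cases hc : Commute d x
        · exact Or.inl ((eq_or_ne x d).imp id fun ne => ⟨hx, ne, hc⟩)
        · exact Or.inr ⟨hx, hc⟩, fun hx => hx.elim (fun hx => hx.elim (fun e => e ▸ hd) And.left) And.left⟩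
    conv_lhs => rw [e]
    rw [Set.ncard_union_eq, Set.ncard_insert_of_notMem fun hh => hh.2.1 rfl, hk d hd]
    exact Set.disjoint_left.2 fun x hx hx' => hx.elim (fun e => hx'.2 (e ▸ Commute.refl d)) fun hx => hx'.2 hx.2.2
  have hmle : mu < 3511 := by
    have := Set.ncard_le_ncard (Set.inter_subset_left (s := nb D d₁) (t := nb D c))
    rw [← both_eq_inter hdc', hmu, hk d₁ hd₁] at this
    omega
  obtain ⟨nA, hnA⟩ : ∃ n, {x | x ∈ D ∧ ¬ Commute d₁ x}.ncard = n := ⟨_, rfl⟩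
  have hmul := hA d₁ hd₁
  rw [hnA] at hmul
  have hm0 : 0 < mu := Nat.pos_of_ne_zero fun e => by rw [e, mul_zero] at hmul; norm_num at hmul
  have hm : mu = 351 := by
    have h1 := List.all_eq_true.1 arith_check mu (List.mem_range.2 hmle)
    have hdiv : 9884160 % mu = 0 := by rw [← hmul, Nat.mul_mod_left]
    have hq : 9884160 / mu = nA := by rw [← hmul, Nat.mul_div_cancel _ hm0]
    simp only [hdiv, hq, show Nat.beq 0 0 = true from rfl, Bool.not_true, Bool.false_or, Bool.or_eq_true,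
      nat_beq_iff, Bool.and_eq_true, decide_eq_true_eq] at h1
    rcases h1 with (e | e) | ⟨⟨hΔ, hT⟩, h1⟩
    · exact e
    · exact absurd (not_715 S hd₁ hc hdc' (by rw [← both_eq_inter hdc', hmu, e])) id
    exfalso
    have hΔ' : (0 : ℤ) < ((mu : ℤ) - 693) ^ 2 + 4 * (3510 - (mu : ℤ)) := by rw [sq]; exact hΔ
    obtain ⟨z1, hz1⟩ := (graph_conditions S.cls.conj (k := 3510) (lam := 693) (mu := mu) ⟨d₁, hd₁⟩ hk hlam hmu'
      (by exact_mod_cast hΔ') 1 fun v _ hv => hv.2.1 (by simp)).1 fun v _ => by simp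
    rw [show {v | v ∈ D ∧ (1 : G) * v * 1⁻¹ = v} = D by ext v; simp, hD d₁ hd₁, hnA] at hz1
    push_cast at hz1
    obtain ⟨δ, hδ0, hδ, hδr⟩ := exists_sqrt (Δ := ((mu : ℤ) - 693) * ((mu : ℤ) - 693) + 4 * (3510 - (mu : ℤ))) hΔ.le
      (T := ((mu : ℤ) - 693) * (3511 + (nA : ℤ)) - (2 * 3510 + ((mu : ℤ) - 693))) (z := z1) hT
      (by push_cast; rw [← sq]; linarith [hz1])
    have hδn : δ = (Nat.sqrt (((mu : ℤ) - 693) * ((mu : ℤ) - 693) + 4 * (3510 - (mu : ℤ))).toNat : ℕ) := by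
      obtain ⟨n, rfl⟩ := Int.eq_ofNat_of_zero_le hδ0
      rw [← hδ, show ((n : ℤ) * n).toNat = n * n from Int.toNat_natCast (n * n), Nat.sqrt_eq]
    push_cast at hδr
    rw [sq, hδr] at hz1
    rcases h1 with h1 | h1
    · exact h1 (hδn ▸ hδ)
    · exact h1 (hδn ▸ Int.emod_eq_zero_of_dvd (dvd_of_real (z := z1) (by push_cast; linarith [hz1])))
  subst hm
  refine ⟨?_, hsame, fun d hd => ?_⟩
  · rw [hD d₁ hd₁, hnA]; omega
  · have := hA d hd; omega

/-- A member commuting with the common partners of two is on their line. -/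
theorem Setting23.lineProp (S : Setting23 D) : LineProp D := by
  intro a ha c hc hn w hw hall
  have hW := S.weak
  obtain ⟨p, hp, hpw⟩ : ∃ p ∈ both D a c, p ≠ w := by
    by_contra hno
    push Not at hno
    have h1 := Set.ncard_le_ncard (t := {w}) (fun p hp => hno p hp)
    rw [S.counts.2.1 a ha c hc hn, Set.ncard_singleton] at h1
    omega
  have ap : a ∈ nb D p := ⟨ha, fun e => hn (e ▸ hp.2.2).symm, hp.2.1.symm⟩
  have cp : c ∈ nb D p := ⟨hc, fun e => hn (e ▸ hp.2.1), hp.2.2.symm⟩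
  have wp : w ∈ nb D p := ⟨hw, hpw.symm, (hall p hp).symm⟩
  have aca : a * c * a ∈ nb D p := by
    have := hW.nb_conj a cp
    rwa [conj_eq_of_commute ap.2.2.symm, hW.inv ha] at this
  obtain ⟨F, _, _, σ, hF, h, hP⟩ := (S.quot hp.1).exists_pmap
  rcases lineProp_m22 (S.quot hp.1) hP _ (qd_mem ap) _ (qd_mem cp)
    (fun e => hn ((S.qd_comm hp.1 ap cp).1 e)) _ (qd_mem wp) (fun z hz => by
      obtain ⟨hz1, za, zc⟩ := hz
      obtain ⟨y, hy, rfl⟩ := dq_exists hz1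
      exact (S.qd_comm hp.1 wp hy).2 (hall y ⟨hy.1, (S.qd_comm hp.1 ap hy).1 za, (S.qd_comm hp.1 cp hy).1 zc⟩)) with
    r | r | r
  · exact Or.inl (S.qd_inj hp.1 wp ap r)
  · exact Or.inr (Or.inl (S.qd_inj hp.1 wp cp r))
  · rw [← qd_mul (mem_H ap) (mem_H cp), ← qd_mul (mul_mem (mem_H ap) (mem_H cp)) (mem_H ap)] at r
    exact Or.inr (Or.inr (S.qd_inj hp.1 wp aca r))

end CfsgLib.KnownB.TypeM23
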