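import Cfsg.Agent.Lib.KnownB.TypeM23.Main
import Cfsg.Agent.Lib.KnownB.TypeM22.Invol

/-!
The involutions of a group of type M(23) are the products of at most three commuting members.
-/

set_option autoImplicit false

namespace CfsgLib.KnownB.TypeM23

open Cfsg CfsgLib.Classical.Unitary CfsgLib.ThreeTransp CfsgLib.Involutions
open CfsgLib.KnownB.TypeM22

universe u

variable {G : Type u} [Group G] [Finite G] {D : Set G}

/-- No short relation holds between commuting members. -/
theorem Setting23.short_rel (S : Setting23 D) {l : List G} (hl : ∀ a ∈ l, a ∈ D) (hnd : l.Nodup)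
    (hc : ∀ a ∈ l, ∀ b ∈ l, Commute a b) (hlen : l.length ≤ 5) (hprod : l.prod = 1) : l = [] := by
  match l with
  | [] => rfl
  | a :: t =>
    exfalso
    rw [List.nodup_cons] at hnd
    have ha := hl a (by simp)
    have hsub : ∀ z ∈ t, z ∈ nb D a := fun z hz =>
      ⟨hl z (by simp [hz]), fun e => hnd.1 (e ▸ hz), hc a (by simp) z (by simp [hz])⟩
    obtain ⟨F, _, _, σ, hF, h, hP⟩ := (S.quot ha).exists_pmap
    obtain ⟨hm, hq⟩ := qd_prod (D := D) fun z hz => mem_H (hsub z hz)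
    rw [List.prod_cons, mul_eq_one_iff_inv_eq, S.weak.inv ha] at hprod
    rw [← hprod, S.qd_self ha] at hq
    have h0 := (S.quot ha).short_rel hP (l := t.map (qd D a))
      (fun z hz => by obtain ⟨y, hy, rfl⟩ := List.mem_map.1 hz; exact qd_mem (hsub y hy))
      (hnd.2.map_on fun x hx y hy e => S.qd_inj ha (hsub x hx) (hsub y hy) e)
      (fun z hz w hw => by
        obtain ⟨x, hx, rfl⟩ := List.mem_map.1 hz
        obtain ⟨y, hy, rfl⟩ := List.mem_map.1 hw
        exact (S.qd_comm ha (hsub x hx) (hsub y hy)).2 (hc x (by simp [hx]) y (by simp [hy])))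
      (by simp only [List.length_cons] at hlen; simp only [List.length_map]; omega) hq.symm
    rw [List.map_eq_nil_iff] at h0
    subst h0
    obtain ⟨c, hc', hn⟩ := S.cls.exists_noncommute ha
    rw [List.prod_nil] at hprod
    exact hn (hprod ▸ Commute.one_right c)

/-- A product of members determines their number. -/
theorem Setting23.length_eq (S : Setting23 D) {l l' : List G} (hl : ∀ a ∈ l, a ∈ D)
    (hnd : l.Nodup) (hc : ∀ a ∈ l, ∀ b ∈ l, Commute a b) (hlen : l.length ≤ 3) (hl' : ∀ a ∈ l', a ∈ D)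
    (hnd' : l'.Nodup) (hc' : ∀ a ∈ l', ∀ b ∈ l', Commute a b) (hlen' : l'.length ≤ 3) (he : l.prod = l'.prod) :
    l.length = l'.length := by
  classical
  by_contra hne
  have hW := S.weak
  have hcross : ∀ a ∈ l, ∀ b ∈ l', Commute a b := fun a ha b hb =>
    (hW.commute_all_of_short (hl' b hb) hl hnd hc (he ▸ Commute.list_prod_right _ _ fun z hz => hc' b hb z hz)
      hlen a ha).symm
  obtain ⟨A, hA⟩ : ∃ A, A = l.filter fun a => decide (a ∉ l') := ⟨_, rfl⟩
  obtain ⟨B, hB⟩ : ∃ B, B = l'.filter fun a => decide (a ∉ l) := ⟨_, rfl⟩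
  obtain ⟨K, hK⟩ : ∃ K, K = l.filter fun a => !decide (a ∉ l') := ⟨_, rfl⟩
  obtain ⟨K', hK'⟩ : ∃ K', K' = l'.filter fun a => !decide (a ∉ l) := ⟨_, rfl⟩
  have hKK : K.Perm K' := by
    refine (List.perm_ext_iff_of_nodup (hK ▸ hnd.filter _) (hK' ▸ hnd'.filter _)).2 fun z => ?_
    simp [hK, hK', List.mem_filter, and_comm]
  have hp1 : (A ++ K).Perm l := by rw [hA, hK]; exact List.filter_append_perm _ _
  have hp2 : (B ++ K').Perm l' := by rw [hB, hK']; exact List.filter_append_perm _ _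
  have e1 := hp1.prod_eq' (List.pairwise_of_forall_mem_list fun a ha b hb => hc a (hp1.subset ha) b (hp1.subset hb))
  have e2 := hp2.prod_eq' (List.pairwise_of_forall_mem_list fun a ha b hb => hc' a (hp2.subset ha) b (hp2.subset hb))
  have e3 := hKK.prod_eq' (List.pairwise_of_forall_mem_list fun a ha b hb =>
    hc a (hp1.subset (List.mem_append_right _ ha)) b (hp1.subset (List.mem_append_right _ hb)))
  rw [List.prod_append] at e1 e2
  have hAB : A.prod = B.prod := by
    have h1 : A.prod * K.prod = B.prod * K.prod := by rw [e1, e3, e2, he]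
    exact mul_right_cancel h1
  have hBsq : B.prod * B.prod = 1 := by
    have : ∀ L : List G, (∀ a ∈ L, a ∈ D) → (∀ a ∈ L, ∀ b ∈ L, Commute a b) → L.prod * L.prod = 1 := by
      intro L hL hLc
      induction L with
      | nil => simp
      | cons a L ih =>
        have hcomm : Commute a L.prod := Commute.list_prod_right _ _ fun z hz =>
          hLc a (by simp) z (List.mem_cons_of_mem _ hz)
        rw [List.prod_cons, ← pow_two, hcomm.mul_pow, pow_two, pow_two, hW.sq a (hL a (by simp)),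
          ih (fun z hz => hL z (List.mem_cons_of_mem _ hz))
            (fun y hy z hz => hLc y (List.mem_cons_of_mem _ hy) z (List.mem_cons_of_mem _ hz)), one_mul]
    exact this B (fun a ha => hl' a (List.mem_filter.1 (hB ▸ ha)).1)
      fun a ha b hb => hc' a (List.mem_filter.1 (hB ▸ ha)).1 b (List.mem_filter.1 (hB ▸ hb)).1
  have hmA : ∀ a ∈ A, a ∈ l ∧ a ∉ l' := fun a ha => by simpa [hA, List.mem_filter] using ha
  have hmB : ∀ a ∈ B, a ∈ l' ∧ a ∉ l := fun a ha => by simpa [hB, List.mem_filter] using ha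
  have hlA : A.length + K.length = l.length := by rw [← List.length_append]; exact hp1.length_eq
  have hlB : B.length + K'.length = l'.length := by rw [← List.length_append]; exact hp2.length_eq
  have hnil := S.short_rel (l := A ++ B)
    (fun a ha => (List.mem_append.1 ha).elim (fun q => hl a (hmA a q).1) fun q => hl' a (hmB a q).1)
    (List.nodup_append.2 ⟨hA ▸ hnd.filter _, hB ▸ hnd'.filter _, fun a ha b hb e => (hmB b hb).2 (e ▸ (hmA a ha).1)⟩)
    (fun a ha b hb => by
      rcases List.mem_append.1 ha with qa | qa <;> rcases List.mem_append.1 hb with qb | qb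
      · exact hc a (hmA a qa).1 b (hmA b qb).1
      · exact hcross a (hmA a qa).1 b (hmB b qb).1
      · exact (hcross b (hmA b qb).1 a (hmB a qa).1).symm
      · exact hc' a (hmB a qa).1 b (hmB b qb).1)
    (by rw [List.length_append]; omega) (by rw [List.prod_append, hAB, hBsq])
  have h0 : A.length = 0 ∧ B.length = 0 := by
    have := congrArg List.length hnil
    rw [List.length_append, List.length_nil] at this
    omega
  have := hKK.length_eq
  omega


/-- Products of commuting members square to one. -/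
theorem Setting23.prod_sq (S : Setting23 D) : ∀ L : List G, (∀ a ∈ L, a ∈ D) → (∀ a ∈ L, ∀ b ∈ L, Commute a b) →
    L.prod * L.prod = 1 := by
  intro L
  induction L with
  | nil => simp
  | cons a L ih =>
    intro hL hLc
    have hcomm : Commute a L.prod := Commute.list_prod_right _ _ fun z hz =>
      hLc a (by simp) z (List.mem_cons_of_mem _ hz)
    rw [List.prod_cons, ← pow_two, hcomm.mul_pow, pow_two, pow_two, S.weak.sq a (hL a (by simp)),
      ih (fun z hz => hL z (List.mem_cons_of_mem _ hz))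
        (fun y hy z hz => hLc y (List.mem_cons_of_mem _ hy) z (List.mem_cons_of_mem _ hz)), one_mul]

/-- Every involution is a product of at most three commuting members. -/
theorem Setting23.invol_prod (S : Setting23 D) {x : G} (hx : x * x = 1) (hx1 : x ≠ 1) :
    ∃ m : ℕ, 1 ≤ m ∧ m ≤ 3 ∧ ∃ l : List G, l.Nodup ∧ l.length = m ∧ (∀ a ∈ l, a ∈ D) ∧
      (∀ a ∈ l, ∀ b ∈ l, Commute a b) ∧ l.prod = x := by
  classical
  have hW := S.weak
  haveI : Fintype G := Fintype.ofFinite G
  haveI : Fact (Nat.Prime 2) := ⟨Nat.prime_two⟩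
  obtain ⟨d, hd, hxd⟩ : ∃ d ∈ D, x * d * x⁻¹ = d := by
    have hxi : x⁻¹ = x := inv_eq_of_mul_eq_one_right hx
    let τ : Equiv.Perm D := Function.Involutive.toPerm (fun i => ⟨x * i * x⁻¹, S.cls.conj x i i.2⟩) fun i =>
      Subtype.ext (show x * (x * (i : G) * x⁻¹) * x⁻¹ = i by
        rw [show x * (x * (i : G) * x⁻¹) * x⁻¹ = (x * x) * i * (x * x)⁻¹ by group, hx]; group)
    have hodd : ¬ 2 ∣ Fintype.card D := by
      rw [← Nat.card_eq_fintype_card, Nat.card_coe_set_eq, S.counts.1]; norm_num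
    obtain ⟨i, hi⟩ := Equiv.Perm.exists_fixed_point_of_prime (σ := τ) hodd (n := 1) (by
      rw [pow_one, pow_two]
      exact Equiv.ext fun i => Subtype.ext (show x * (x * (i : G) * x⁻¹) * x⁻¹ = i by
        rw [show x * (x * (i : G) * x⁻¹) * x⁻¹ = (x * x) * i * (x * x)⁻¹ by group, hx]; group))
    exact ⟨i, i.2, congrArg Subtype.val hi⟩
  have hxH : x ∈ Subgroup.closure (nb D d) := by
    rw [S.centralizer_eq hd, Subgroup.mem_centralizer_singleton_iff]
    exact mul_inv_eq_iff_eq_mul.1 hxd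
  obtain ⟨F, _, _, σ, hF, h, hP⟩ := (S.quot hd).exists_pmap
  by_cases hq1 : qd D d x = 1
  · refine ⟨1, le_rfl, by norm_num, [d], by simp, rfl, by simp [hd], by simp, ?_⟩
    rcases S.center_cases hd hxH hq1 with r | r
    · exact absurd r hx1
    · simp [r]
  obtain ⟨m, hm1, hm3, lq, hnd, hlen, hlD, hlc, hlp⟩ := (S.quot hd).invol_prod hP (x := qd D d x)
    (by rw [← qd_mul hxH hxH, hx, qd_one]) hq1
  -- lifts
  obtain ⟨ι, hι⟩ : ∃ ι : Qd D d → G, ∀ z ∈ Dq D d, ι z ∈ nb D d ∧ qd D d (ι z) = z :=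
    ⟨fun z => if hz : z ∈ Dq D d then Classical.choose (dq_exists hz) else 1, fun z hz => by
      simp only [dif_pos hz]; exact Classical.choose_spec (dq_exists hz)⟩
  have hlift : ∀ L : List (Qd D d), (∀ z ∈ L, z ∈ Dq D d) → L.Nodup → (∀ z ∈ L, ∀ w ∈ L, Commute z w) →
      (∀ a ∈ L.map ι, a ∈ nb D d) ∧ (L.map ι).Nodup ∧ (∀ a ∈ L.map ι, ∀ b ∈ L.map ι, Commute a b) ∧
        (L.map ι).prod ∈ Subgroup.closure (nb D d) ∧ qd D d (L.map ι).prod = L.prod := by
    intro L hL hLn hLc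
    have h1 : ∀ a ∈ L.map ι, a ∈ nb D d := fun a ha => by
      obtain ⟨z, hz, rfl⟩ := List.mem_map.1 ha; exact (hι z (hL z hz)).1
    obtain ⟨h4, h5⟩ := qd_prod (D := D) fun a ha => mem_H (h1 a ha)
    refine ⟨h1, hLn.map_on fun z hz w hw e => by rw [← (hι z (hL z hz)).2, e, (hι w (hL w hw)).2], ?_, h4, ?_⟩
    · intro a ha b hb
      obtain ⟨z, hz, rfl⟩ := List.mem_map.1 ha
      obtain ⟨w, hw, rfl⟩ := List.mem_map.1 hb
      exact (S.qd_comm hd (hι z (hL z hz)).1 (hι w (hL w hw)).1).1 (by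
        rw [(hι z (hL z hz)).2, (hι w (hL w hw)).2]; exact hLc z hz w hw)
    · rw [h5, List.map_map]
      congr 1
      conv_rhs => rw [← List.map_id L]
      exact List.map_congr_left fun z hz => (hι z (hL z hz)).2
  obtain ⟨l1, l2, l3, l4, l5⟩ := hlift lq hlD hnd hlc
  rw [hlp] at l5
  have hsq := S.prod_sq _ (fun a ha => (l1 a ha).1) l3
  have hq : qd D d (x * (lq.map ι).prod) = 1 := by
    rw [qd_mul hxH l4, l5, ← qd_mul hxH hxH, hx, qd_one]
  rcases S.center_cases hd (mul_mem hxH l4) hq with r | r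
  · exact ⟨m, hm1, hm3, lq.map ι, l2, by simpa using hlen, fun a ha => (l1 a ha).1, l3,
      by rw [eq_inv_of_mul_eq_one_left r, inv_eq_of_mul_eq_one_right hsq]⟩
  have hxe : x = d * (lq.map ι).prod := by
    calc x = x * (lq.map ι).prod * (lq.map ι).prod := by rw [mul_assoc, hsq, mul_one]
      _ = d * (lq.map ι).prod := congrArg (· * (lq.map ι).prod) r
  rcases Nat.lt_or_ge m 3 with hm | hm
  · refine ⟨m + 1, by omega, by omega, d :: lq.map ι, List.nodup_cons.2 ⟨fun hh => (l1 d hh).2.1 rfl, l2⟩,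
      by simp [hlen], ?_, ?_, by rw [List.prod_cons, hxe]⟩
    · intro a ha
      rcases List.mem_cons.1 ha with rfl | ha
      exacts [hd, (l1 a ha).1]
    · intro a ha b hb
      rcases List.mem_cons.1 ha with rfl | ha <;> rcases List.mem_cons.1 hb with rfl | hb
      exacts [Commute.refl _, (l1 b hb).2.2, (l1 a ha).2.2.symm, l3 a ha b hb]
  -- the other triple
  have hm' : m = 3 := le_antisymm hm3 hm
  subst hm'
  have t1 : IsTriple (Dq D d) (qd D d x) lq := ⟨hnd, hlen, hlD, hlc, hlp⟩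
  obtain ⟨z₀, hz₀, h2z⟩ := special_of_points (S.quot hd).typ
  obtain ⟨k1, k2, tk1, tk2, kne, hall⟩ := (S.quot hd).cls.two_triples_points (S.quot hd).prim hz₀ h2z (S.quot hd).typ t1
  obtain ⟨lo, to', hne⟩ : ∃ lo, IsTriple (Dq D d) (qd D d x) lo ∧ ¬ ∀ z, z ∈ lq ↔ z ∈ lo := by
    rcases hall _ t1 with a | a
    · exact ⟨k2, tk2, fun e0 => kne fun z => (a z).symm.trans (e0 z)⟩
    · exact ⟨k1, tk1, fun e0 => kne fun z => ((a z).symm.trans (e0 z)).symm⟩
  have hdisj : ∀ z ∈ lq, z ∉ lo := fun z h1 h2' =>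
    hne ((S.quot hd).cls.triple_shared (S.quot hd).pCore_two t1 to' h1 h2')
  obtain ⟨hno, hleno, hoD, hoc, hop⟩ := to'
  obtain ⟨o1, o2, o3, o4, o5⟩ := hlift lo hoD hno hoc
  rw [hop] at o5
  have hcross : ∀ a ∈ lq.map ι, ∀ b ∈ lo.map ι, Commute a b := by
    intro a ha b hb
    obtain ⟨z, hz, rfl⟩ := List.mem_map.1 ha
    obtain ⟨w, hw, rfl⟩ := List.mem_map.1 hb
    refine (S.qd_comm hd (hι z (hlD z hz)).1 (hι w (hoD w hw)).1).1 ?_
    rw [(hι z (hlD z hz)).2, (hι w (hoD w hw)).2]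
    exact ((S.quot hd).weak.commute_all_of_short (hoD w hw) hlD hnd hlc
      (by rw [hlp, ← hop]; exact Commute.list_prod_right _ _ fun u hu => hoc w hw u hu) (by omega) z hz).symm
  have h6 : qd D d ((lq.map ι).prod * (lo.map ι).prod) = 1 := by
    rw [qd_mul l4 o4, l5, o5, ← qd_mul hxH hxH, hx, qd_one]
  rcases S.center_cases hd (mul_mem l4 o4) h6 with r' | r'
  · exfalso
    refine S.cls.six_impossible S.prim S.partners (l := lq.map ι ++ lo.map ι) ?_ ?_ ?_ (by simp [hlen, hleno])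
      (by rw [List.prod_append, r'])
    · intro a ha
      rcases List.mem_append.1 ha with q | q
      exacts [(l1 a q).1, (o1 a q).1]
    · refine List.nodup_append.2 ⟨l2, o2, fun a ha b hb e => ?_⟩
      obtain ⟨z, hz, rfl⟩ := List.mem_map.1 ha
      obtain ⟨w, hw, rfl⟩ := List.mem_map.1 hb
      exact hdisj z hz (by rw [← (hι z (hlD z hz)).2, e, (hι w (hoD w hw)).2]; exact hw)
    · intro a ha b hb
      rcases List.mem_append.1 ha with q | q <;> rcases List.mem_append.1 hb with q' | q'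
      exacts [l3 a q b q', hcross a q b q', (hcross b q' a q).symm, o3 a q b q']
  · refine ⟨3, by norm_num, le_rfl, lo.map ι, o2, by simp [hleno], fun a ha => (o1 a ha).1, o3, ?_⟩
    have hcd : Commute d (lq.map ι).prod := (commute_closure_nb l4).symm
    rw [hxe, hcd.eq]
    calc (lo.map ι).prod = (lq.map ι).prod * ((lq.map ι).prod * (lo.map ι).prod) := by
          rw [← mul_assoc, hsq, one_mul]
      _ = (lq.map ι).prod * d := by rw [r']

/-- The group is transitive on ordered commuting pairs and triples. -/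
theorem Setting23.pair_map (S : Setting23 D) {a b a' b' : G} (ha : a ∈ D) (hb : b ∈ nb D a) (ha' : a' ∈ D)
    (hb' : b' ∈ nb D a') : ∃ g : G, g * a * g⁻¹ = a' ∧ g * b * g⁻¹ = b' := by
  obtain ⟨g, hg⟩ := S.cls.trans a ha a' ha'
  have h1 : g * b * g⁻¹ ∈ nb D a' := by
    have := S.weak.nb_conj g hb
    rwa [hg] at this
  obtain ⟨k, hk, hke⟩ := S.cls.orb_nb S.prim ha' h1 hb'
  refine ⟨k * g, ?_, ?_⟩
  · rw [show k * g * a * (k * g)⁻¹ = k * (g * a * g⁻¹) * k⁻¹ by group, hg]
    exact TypeM22.conj_eq_of_commute (commute_closure_nb hk)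
  · rw [show k * g * b * (k * g)⁻¹ = k * (g * b * g⁻¹) * k⁻¹ by group, hke]

theorem Setting23.triple_map (S : Setting23 D) {a b c a' b' c' : G} (ha : a ∈ D) (hb : b ∈ nb D a)
    (hc : c ∈ pnb D a b) (ha' : a' ∈ D) (hb' : b' ∈ nb D a') (hc' : c' ∈ pnb D a' b') :
    ∃ g : G, g * a * g⁻¹ = a' ∧ g * b * g⁻¹ = b' ∧ g * c * g⁻¹ = c' := by
  obtain ⟨g, g1, g2⟩ := S.pair_map ha hb ha' hb'
  have h1 : g * c * g⁻¹ ∈ pnb D a' b' := by
    have k1 := S.weak.nb_conj g hc.1
    have k2 := S.weak.nb_conj g hc.2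
    rw [g1] at k1
    rw [g2] at k2
    exact ⟨k1, k2⟩
  obtain ⟨k, hk, hke⟩ := S.pair_orb ha' hb' h1 hc'
  refine ⟨k * g, ?_, ?_, ?_⟩
  · rw [show k * g * a * (k * g)⁻¹ = k * (g * a * g⁻¹) * k⁻¹ by group, g1]
    exact TypeM22.conj_eq_of_commute (pnb_commute hk).1
  · rw [show k * g * b * (k * g)⁻¹ = k * (g * b * g⁻¹) * k⁻¹ by group, g2]
    exact TypeM22.conj_eq_of_commute (pnb_commute hk).2
  · rw [show k * g * c * (k * g)⁻¹ = k * (g * c * g⁻¹) * k⁻¹ by group, hke]

/-- Products of equally many commuting members are conjugate. -/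
theorem Setting23.prod_conj (S : Setting23 D) {l l' : List G} (hl : ∀ a ∈ l, a ∈ D) (hnd : l.Nodup)
    (hc : ∀ a ∈ l, ∀ b ∈ l, Commute a b) (hl' : ∀ a ∈ l', a ∈ D) (hnd' : l'.Nodup)
    (hc' : ∀ a ∈ l', ∀ b ∈ l', Commute a b) (hlen : l.length = l'.length) (h1 : 1 ≤ l.length) (h3 : l.length ≤ 3) :
    IsConj l.prod l'.prod := by
  rw [isConj_iff]
  match l, l' with
  | [a], [a'] => simpa using S.cls.trans a (hl a (by simp)) a' (hl' a' (by simp))
  | [a, b], [a', b'] =>
    simp at hnd hnd'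
    obtain ⟨g, g1, g2⟩ := S.pair_map (hl a (by simp)) ⟨hl b (by simp), Ne.symm hnd, hc a (by simp) b (by simp)⟩
      (hl' a' (by simp)) ⟨hl' b' (by simp), Ne.symm hnd', hc' a' (by simp) b' (by simp)⟩
    exact ⟨g, by simp [← g1, ← g2, mul_assoc]⟩
  | [a, b, c], [a', b', c'] =>
    simp at hnd hnd'
    obtain ⟨⟨n1, n2⟩, n3⟩ := hnd
    obtain ⟨⟨n1', n2'⟩, n3'⟩ := hnd'
    have ha := hl a (by simp); have hb := hl b (by simp); have hcD := hl c (by simp)
    have ha' := hl' a' (by simp); have hb' := hl' b' (by simp); have hcD' := hl' c' (by simp)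
    obtain ⟨g, g1, g2, g3⟩ := S.triple_map ha ⟨hb, Ne.symm n1, hc a (by simp) b (by simp)⟩
      ⟨⟨hcD, Ne.symm n2, hc a (by simp) c (by simp)⟩, hcD, Ne.symm n3, hc b (by simp) c (by simp)⟩
      ha' ⟨hb', Ne.symm n1', hc' a' (by simp) b' (by simp)⟩
      ⟨⟨hcD', Ne.symm n2', hc' a' (by simp) c' (by simp)⟩, hcD', Ne.symm n3', hc' b' (by simp) c' (by simp)⟩
    exact ⟨g, by simp [← g1, ← g2, ← g3, mul_assoc]⟩
  | [], _ => simp at h1
  | _ :: _ :: _ :: _ :: _, _ => simp only [List.length_cons] at h3; omega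
  | [_], [] => simp at hlen
  | [_], _ :: _ :: _ => simp at hlen
  | [_, _], [] => simp at hlen
  | [_, _], [_] => simp at hlen
  | [_, _], _ :: _ :: _ :: _ => simp at hlen
  | [_, _, _], [] => simp at hlen
  | [_, _, _], [_] => simp at hlen
  | [_, _, _], [_, _] => simp at hlen
  | [_, _, _], _ :: _ :: _ :: _ :: _ => simp at hlen

/-- Three commuting members exist. -/
theorem Setting23.exists_three (S : Setting23 D) : ∃ a b c, a ∈ D ∧ b ∈ nb D a ∧ c ∈ pnb D a b := by
  obtain ⟨d, hd, -⟩ := S.exists_pair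
  obtain ⟨x, hx, y, hy, hne, hxy⟩ := (S.quot hd).exists_pair
  obtain ⟨b, hb, rfl⟩ := dq_exists hx
  obtain ⟨c, hc, rfl⟩ := dq_exists hy
  exact ⟨d, b, c, hd, hb, hc, hc.1, fun e => hne (by rw [e]), (S.qd_comm hd hb hc).1 hxy⟩

end CfsgLib.KnownB.TypeM23
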