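import Cfsg.Agent.Lib.KnownB.TypeM23.Count
import Cfsg.Agent.Lib.ThreeTransp.ProductUnique

/-!
A member lies in the subgroup generated by its partners, which is quasisimple, and the group is simple.
-/

set_option autoImplicit false

namespace CfsgLib.KnownB.TypeM23

open Cfsg CfsgLib.Classical.Unitary CfsgLib.ThreeTransp CfsgLib.Involutions
open CfsgLib.KnownB.TypeM22

open scoped commutatorElement

universe u

variable {G : Type u} [Group G] [Finite G] {D : Set G}

theorem Setting23.center_cases (S : Setting23 D) {d x : G} (hd : d ∈ D) (hx : x ∈ Subgroup.closure (nb D d))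
    (h1 : qd D d x = 1) : x = 1 ∨ x = d :=
  eq_one_or S.weak S.center S.lineProp hd (commute_closure_nb hx) ((qd_eq_one hx).1 h1)

theorem Setting23.partners (S : Setting23 D) : HasPartnerData D := by
  obtain ⟨d, hd, -⟩ := S.cls.two
  exact ⟨d, hd, (S.typ_all hd).1, special_of_typeM22 (S.typ_all hd)⟩

/-- A partner of a partner, seen in the quotient. -/
theorem Setting23.pair_mem (S : Setting23 D) {d b y : G} (hd : d ∈ D) (hb : b ∈ nb D d) (hy : y ∈ nb D d) :
    qd D d y ∈ nb (Dq D d) (qd D d b) ↔ y ∈ nb D d ∩ nb D b :=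
  ⟨fun h => ⟨hy, hy.1, fun e => h.2.1 (congrArg _ e), (S.qd_comm hd hb hy).1 h.2.2⟩,
    fun h => ⟨qd_mem hy, fun e => h.2.2.1 (S.qd_inj hd hy hb e), (S.qd_comm hd hb hy).2 h.2.2.2⟩⟩

theorem Setting23.pair_lift (S : Setting23 D) {d b : G} (hd : d ∈ D) (hb : b ∈ nb D d) {z : Qd D d}
    (hz : z ∈ nb (Dq D d) (qd D d b)) : ∃ y, y ∈ nb D d ∩ nb D b ∧ qd D d y = z := by
  obtain ⟨y, hy, rfl⟩ := dq_exists hz.1
  exact ⟨y, (S.pair_mem hd hb hy).1 hz, rfl⟩

theorem qd_prod {d : G} {l : List G} (hl : ∀ y ∈ l, y ∈ Subgroup.closure (nb D d)) :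
    l.prod ∈ Subgroup.closure (nb D d) ∧ qd D d l.prod = (l.map (qd D d)).prod := by
  induction l with
  | nil => exact ⟨one_mem _, qd_one⟩
  | cons a l ih =>
    obtain ⟨h1, h2⟩ := ih fun y hy => hl y (List.mem_cons_of_mem _ hy)
    have ha := hl a (by simp)
    rw [List.prod_cons, List.map_cons, List.prod_cons, ← h2]
    exact ⟨mul_mem ha h1, qd_mul ha h1⟩

/-- Six partners with product the member. -/
theorem Setting23.six_self (S : Setting23 D) {d : G} (hd : d ∈ D) :
    ∃ y : Fin 6 → G, (∀ i, y i ∈ nb D d) ∧ y 0 * (y 1 * (y 2 * (y 3 * (y 4 * y 5)))) = d := by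
  classical
  obtain ⟨F, _, _, σ, hF, h, hP⟩ := (S.quot hd).exists_pmap
  obtain ⟨a, ha, -⟩ := (S.quot hd).exists_pair
  obtain ⟨b, hb, rfl⟩ := dq_exists ha
  clear ha
  obtain ⟨f, P⟩ := hP _ (qd_mem hb)
  obtain ⟨r, s, H⟩ := exists_frame hF h
  obtain ⟨ω, hω, hω3, hσω⟩ := exists_omega hF h rfl
  obtain ⟨z, hz, hinj, hc, -, hprod⟩ := P.line_five (S.quot hd) hP (qd_mem hb) H hω hω3 hσω
  choose y hy eyz using fun i => S.pair_lift hd hb (hz i)
  refine ⟨![b, y 0, y 1, y 2, y 3, y 4], fun i => by fin_cases i <;> simp [hb, (hy _).1], ?_⟩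
  have hl : ∀ w ∈ [b, y 0, y 1, y 2, y 3, y 4], w ∈ nb D d := fun w hw => by
    simp only [List.mem_cons, List.not_mem_nil, or_false] at hw
    rcases hw with rfl | rfl | rfl | rfl | rfl | rfl
    · exact hb
    all_goals exact (hy _).1
  obtain ⟨hm, hq⟩ := qd_prod (D := D) fun w hw => mem_H (hl w hw)
  have e : qd D d [b, y 0, y 1, y 2, y 3, y 4].prod = 1 := by
    rw [hq]
    simp only [List.map_cons, List.map_nil, List.prod_cons, List.prod_nil, mul_one, eyz]
    simp only [el, Subgroup.coe_mul] at hprod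
    rw [hprod]
    exact (S.quot hd).weak.sq _ (qd_mem hb)
  rcases S.center_cases hd hm e with r | r
  · exfalso
    refine S.cls.six_impossible S.prim S.partners (fun w hw => (hl w hw).1) ?_ ?_ rfl r
    · have hyi : ∀ i j, y i = y j → i = j := fun i j e0 => hinj (by rw [← eyz i, ← eyz j, e0])
      have hyb : ∀ i, b ≠ y i := fun i => (hy i).2.2.1.symm
      simp [hyb, fun i j => (⟨hyi i j, congrArg y⟩ : y i = y j ↔ i = j)]
    · have hcb : ∀ i, Commute b (y i) := fun i => (hy i).2.2.2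
      have hcy : ∀ i j, Commute (y i) (y j) := fun i j =>
        (S.qd_comm hd (hy i).1 (hy j).1).1 (by rw [eyz, eyz]; exact hc i j)
      simp [hcb, fun i => (hcb i).symm, hcy]
  · simpa using r

theorem Setting23.self_mem (S : Setting23 D) {d : G} (hd : d ∈ D) : d ∈ Subgroup.closure (nb D d) := by
  obtain ⟨y, hy, e⟩ := S.six_self hd
  have h1 := mul_mem (mem_H (hy 0)) (mul_mem (mem_H (hy 1)) (mul_mem (mem_H (hy 2))
    (mul_mem (mem_H (hy 3)) (mul_mem (mem_H (hy 4)) (mem_H (hy 5))))))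
  rwa [e] at h1

/-- The centre of the subgroup generated by the partners. -/
theorem Setting23.center_eq (S : Setting23 D) {d : G} (hd : d ∈ D) :
    Subgroup.center (Subgroup.closure (nb D d)) = (Subgroup.zpowers d).subgroupOf (Subgroup.closure (nb D d)) := by
  refine le_antisymm (fun z hz => ?_) fun z hz => ?_
  · rw [Subgroup.mem_subgroupOf]
    rcases S.center_cases hd z.2 ((qd_mk z).trans ((QuotientGroup.eq_one_iff z).2 hz)) with r | r <;> rw [r]
    · exact one_mem _
    · exact Subgroup.mem_zpowers d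
  · rw [Subgroup.mem_subgroupOf, Subgroup.mem_zpowers_iff] at hz
    obtain ⟨k, hk⟩ := hz
    exact Subgroup.mem_center_iff.2 fun w => Subtype.ext (by
      rw [Subgroup.coe_mul, Subgroup.coe_mul, ← hk]
      exact ((commute_closure_nb w.2).zpow_right k).eq)

theorem Setting23.qd_self (S : Setting23 D) {d : G} (hd : d ∈ D) : qd D d d = 1 :=
  (qd_eq_one (S.self_mem hd)).2 fun _ hy => hy.2.2

theorem Setting23.qd_simple (S : Setting23 D) {d : G} (hd : d ∈ D) :
    IsSimpleGroup (Qd D d) ∧ commutator (Qd D d) = ⊤ := by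
  obtain ⟨F, _, _, σ, hF, h, hP⟩ := (S.quot hd).exists_pmap
  have hs := (S.quot hd).simple hP
  refine ⟨hs, (hs.eq_bot_or_eq_top_of_normal _ inferInstance).resolve_left fun r => ?_⟩
  refine (S.quot hd).cls.not_all_commute fun a _ b _ => commutatorElement_eq_one_iff_mul_comm.1 ?_
  have h1 : ⁅a, b⁆ ∈ commutator (Qd D d) :=
    Subgroup.commutator_mem_commutator (Subgroup.mem_top a) (Subgroup.mem_top b)
  rwa [r, Subgroup.mem_bot] at h1

theorem Setting23.perfect (S : Setting23 D) {d : G} (hd : d ∈ D) :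
    commutator (Subgroup.closure (nb D d)) = ⊤ := by
  have hW := S.weak
  obtain ⟨K, hK⟩ : ∃ K, K = commutator (Subgroup.closure (nb D d)) := ⟨_, rfl⟩
  rw [← hK]
  have hpair : ∀ {y z} (hy : y ∈ nb D d) (hz : z ∈ nb D d), el hy * el hz ∈ K := fun {y z} hy hz => by
    obtain ⟨k, hk, hke⟩ := S.cls.orb_nb S.prim hd hy hz
    have h1 : el hy * el hz = ⁅el hy, (⟨k, hk⟩ : Subgroup.closure (nb D d))⁆ := Subtype.ext (by
      show y * z = y * k * y⁻¹ * k⁻¹
      rw [← hke, hW.inv hy.1]; group)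
    rw [h1, hK]
    exact Subgroup.commutator_mem_commutator (Subgroup.mem_top _) (Subgroup.mem_top _)
  obtain ⟨y, hy, e⟩ := S.six_self hd
  obtain ⟨δ, hδ⟩ : ∃ δ : Subgroup.closure (nb D d), (δ : G) = d := ⟨⟨d, S.self_mem hd⟩, rfl⟩
  have hdK : δ ∈ K := by
    have h1 := mul_mem (hpair (hy 0) (hy 1)) (mul_mem (hpair (hy 2) (hy 3)) (hpair (hy 4) (hy 5)))
    rwa [show el (hy 0) * el (hy 1) * (el (hy 2) * el (hy 3) * (el (hy 4) * el (hy 5))) = δ from
      Subtype.ext (by simp only [Subgroup.coe_mul, el, hδ]; rw [← e]; simp only [mul_assoc])] at h1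
  refine eq_top_iff.2 fun x _ => ?_
  obtain ⟨k, hk, hke⟩ : (QuotientGroup.mk x : Qd D d) ∈ K.map (QuotientGroup.mk' _) := by
    rw [hK, commutator_def, Subgroup.map_commutator,
      Subgroup.map_top_of_surjective _ (QuotientGroup.mk'_surjective _), ← commutator_def, (S.qd_simple hd).2]
    trivial
  have hc : qd D d ((k⁻¹ * x : Subgroup.closure (nb D d)) : G) = 1 :=
    (qd_mk _).trans ((QuotientGroup.eq_one_iff _).2 (QuotientGroup.eq.1 hke))
  rcases S.center_cases hd (k⁻¹ * x).2 hc with r | r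
  · rw [← inv_mul_eq_one.1 (Subtype.ext r : k⁻¹ * x = 1)]; exact hk
  · rw [show x = k * δ by rw [show δ = k⁻¹ * x from Subtype.ext (hδ.trans r.symm), mul_inv_cancel_left]]
    exact mul_mem hk hdK

theorem Setting23.quasisimple (S : Setting23 D) {d : G} (hd : d ∈ D) :
    IsQuasisimple (Subgroup.closure (nb D d)) :=
  ⟨Group.isPerfect_def.2 (S.perfect hd), (S.qd_simple hd).1⟩

/-- A group of type M(23) is simple. -/
theorem Setting23.simple (S : Setting23 D) : IsSimpleGroup G := by
  have hs : IsSimpleGroup (commutator G) :=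
    (S.cls.simple_iff_primitive S.center S.exists_pair).1.2 S.prim
  have hD : D ⊆ (commutator G : Set G) := fun d hd => by
    have h1 : (⟨d, S.self_mem hd⟩ : Subgroup.closure (nb D d)) ∈ commutator (Subgroup.closure (nb D d)) :=
      (S.perfect hd).symm ▸ Subgroup.mem_top _
    have h2 : (commutator (Subgroup.closure (nb D d))).map (Subgroup.closure (nb D d)).subtype ≤ commutator G := by
      rw [commutator_def, Subgroup.map_commutator, commutator_def]
      exact Subgroup.commutator_mono le_top le_top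
    exact h2 ⟨_, h1, rfl⟩
  have htop : commutator G = ⊤ := top_le_iff.1 (S.cls.gen ▸ (Subgroup.closure_le _).2 hD)
  exact isSimpleGroup_of_equiv ((MulEquiv.subgroupCongr htop).trans Subgroup.topEquiv).symm hs

end CfsgLib.KnownB.TypeM23
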