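import Cfsg.Agent.Lib.KnownB.TypeM23.Kernel
import Cfsg.Agent.Lib.KnownB.TypeM22.Action

/-!
The common partners of two commuting members are the points of a unitary space; they generate a
quasisimple group whose centre is generated by the two members.
-/

set_option autoImplicit false

namespace CfsgLib.KnownB.TypeM23

open Cfsg CfsgLib.Classical.Unitary CfsgLib.ThreeTransp CfsgLib.ThreeTransp.USix CfsgLib.Involutions
open CfsgLib.KnownB.TypeM22
open CfsgLib.Spor (QField)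

open scoped commutatorElement

universe u

variable {F : Type} [Field F] {σ : F →+* F} {hF : Nat.card F = 2 ^ 2} {h : UFrob σ 2}
  {G : Type u} [Group G] {D : Set G} {d b : G}

/-- The common partners. -/
abbrev pnb (D : Set G) (d b : G) : Set G := nb D d ∩ nb D b

variable {f : Subgroup.closure (nb (Dq D d) (qd D d b)) →* PSU 6 F 2}

/-- A common partner is the point of a vector. -/
def Pt (hF : Nat.card F = 2 ^ 2) (h : UFrob σ 2) (f : Subgroup.closure (nb (Dq D d) (qd D d b)) →* PSU 6 F 2)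
    (y : G) (v : V F) : Prop :=
  y ∈ nb D d ∧ TypeM22.IsPt hF h f (qd D d y) v

theorem Pt.iso {y : G} {v : V F} (p : Pt hF h f y v) : uh σ v v = 0 := p.2.iso

theorem Pt.smul {y : G} {v : V F} (p : Pt hF h f y v) {a : F} (ha : a ≠ 0) : Pt hF h f y (a • v) :=
  ⟨p.1, p.2.smul ha⟩

theorem Pt.congr {y : G} {v w : V F} (p : Pt hF h f y v) (e : v = w) : Pt hF h f y w := e ▸ p

theorem Pt.eq_smul {y : G} {v w : V F} (p : Pt hF h f y v) (q : Pt hF h f y w) (hv0 : v ≠ 0) :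
    ∃ a : F, v = a • w := p.2.eq_smul q.2 hv0

variable [Finite G]

theorem Pt.mem (S : Setting23 D) (hd : d ∈ D) (hb : b ∈ nb D d) {y : G} {v : V F} (p : Pt hF h f y v) :
    y ∈ pnb D d b := (S.pair_mem hd hb p.1).1 p.2.mem

theorem Pt.unique (S : Setting23 D) (hd : d ∈ D) (P : PMap hF h (Dq D d) (qd D d b) f) {y z : G} {v : V F}
    (p : Pt hF h f y v) (q : Pt hF h f z v) : y = z :=
  S.qd_inj hd p.1 q.1 (p.2.unique P q.2)

theorem exists_pt (P : PMap hF h (Dq D d) (qd D d b) f) {v : V F} (hv : uh σ v v = 0) (hv0 : v ≠ 0) :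
    ∃ y, Pt hF h f y v := by
  obtain ⟨z, hz⟩ := exists_isPt P hv hv0
  obtain ⟨y, hy, rfl⟩ := dq_exists hz.mem.1
  exact ⟨y, hy, hz⟩

theorem exists_pvec (S : Setting23 D) (hd : d ∈ D) (hb : b ∈ nb D d) (P : PMap hF h (Dq D d) (qd D d b) f)
    {y : G} (hy : y ∈ pnb D d b) : ∃ v, v ≠ 0 ∧ Pt hF h f y v := by
  obtain ⟨v, hv0, hv⟩ := exists_vec P ((S.pair_mem hd hb hy.1).2 hy)
  exact ⟨v, hv0, hy.1, hv⟩

theorem Pt.comm (S : Setting23 D) (hd : d ∈ D) (P : PMap hF h (Dq D d) (qd D d b) f) {y z : G} {v w : V F}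
    (p : Pt hF h f y v) (q : Pt hF h f z w) : Commute y z ↔ uh σ v w = 0 :=
  (S.qd_comm hd p.1 q.1).symm.trans (p.2.comm P (S.quot hd).weak q.2)

theorem Pt.conj (S : Setting23 D) (hd : d ∈ D) {y z : G} {v w : V F} (p : Pt hF h f y v) (q : Pt hF h f z w) :
    Pt hF h f (y * z * y) (w + uh σ w v • v) := by
  refine ⟨?_, ?_⟩
  · have := S.weak.nb_conj y q.1
    rwa [conj_eq_of_commute p.1.2.2.symm, S.weak.inv p.1.1] at this
  · rw [qd_mul (mul_mem (mem_H p.1) (mem_H q.1)) (mem_H p.1), qd_mul (mem_H p.1) (mem_H q.1)]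
    exact p.2.conj (S.quot hd).weak q.2

theorem pnb_le {D : Set G} {d b : G} : Subgroup.closure (pnb D d b) ≤ Subgroup.closure (nb D d) :=
  Subgroup.closure_mono Set.inter_subset_left

theorem pnb_commute {x : G} (hx : x ∈ Subgroup.closure (pnb D d b)) : Commute x d ∧ Commute x b :=
  ⟨commute_closure_nb (pnb_le hx), commute_closure_nb (Subgroup.closure_mono Set.inter_subset_right hx)⟩

theorem pair_closure (S : Setting23 D) (hd : d ∈ D) (hb : b ∈ nb D d) {k : Qd D d}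
    (hk : k ∈ Subgroup.closure (nb (Dq D d) (qd D d b))) :
    ∃ x, x ∈ Subgroup.closure (pnb D d b) ∧ qd D d x = k := by
  induction hk using Subgroup.closure_induction with
  | mem z hz =>
    obtain ⟨y, hy, e⟩ := S.pair_lift hd hb hz
    exact ⟨y, Subgroup.subset_closure hy, e⟩
  | one => exact ⟨1, one_mem _, qd_one⟩
  | mul a c _ _ iha ihc =>
    obtain ⟨x, hx, rfl⟩ := iha
    obtain ⟨y, hy, rfl⟩ := ihc
    exact ⟨x * y, mul_mem hx hy, qd_mul (pnb_le hx) (pnb_le hy)⟩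
  | inv a _ iha =>
    obtain ⟨x, hx, rfl⟩ := iha
    exact ⟨x⁻¹, inv_mem hx, qd_inv (pnb_le hx)⟩

theorem pair_image (S : Setting23 D) (hd : d ∈ D) (hb : b ∈ nb D d) {x : G}
    (hx : x ∈ Subgroup.closure (pnb D d b)) : qd D d x ∈ Subgroup.closure (nb (Dq D d) (qd D d b)) := by
  induction hx using Subgroup.closure_induction with
  | mem y hy => exact Subgroup.subset_closure ((S.pair_mem hd hb hy.1).2 hy)
  | one => rw [qd_one]; exact one_mem _
  | mul u v hu hv iu iv => rw [qd_mul (pnb_le hu) (pnb_le hv)]; exact mul_mem iu iv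
  | inv u hu iu => rw [qd_inv (pnb_le hu)]; exact inv_mem iu

/-- Elements over the centre of the quotient. -/
theorem four_cases (S : Setting23 D) (hd : d ∈ D) (hb : b ∈ nb D d) {x : G} (hx : x ∈ Subgroup.closure (nb D d))
    (he : qd D d x = 1 ∨ qd D d x = qd D d b) : x = 1 ∨ x = d ∨ x = b ∨ x = d * b := by
  rcases he with e | e
  · exact (S.center_cases hd hx e).imp id Or.inl
  · have h1 : qd D d (x * b) = 1 := by
      rw [qd_mul hx (mem_H hb), e, (S.quot hd).weak.sq _ (qd_mem hb)]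
    rcases S.center_cases hd (mul_mem hx (mem_H hb)) h1 with r | r
    · exact Or.inr (Or.inr (Or.inl (by rw [mul_eq_one_iff_eq_inv.1 r, S.weak.inv hb.1])))
    · refine Or.inr (Or.inr (Or.inr ?_))
      rw [← r, mul_assoc, S.weak.sq b hb.1, mul_one]

theorem six_lifts (S : Setting23 D) (hd : d ∈ D) (hb : b ∈ nb D d)
    (hP : Maps hF h (Dq D d)) (P : PMap hF h (Dq D d) (qd D d b) f) {r s : Fin 3 → V F} (H : Hyp σ r s)
    {ω θ : F} (hω : 1 + ω + ω ^ 2 = 0) (hω3 : ω ^ 3 = 1) (hσω : σ ω = ω ^ 2) (hθ : θ ≠ 0) :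
    ∃ y : Fin 6 → G, Function.Injective y ∧ (∀ i j, Commute (y i) (y j)) ∧
      (∀ i, Pt hF h f (y i) (cvec r (hexC ω θ i))) ∧ y 0 * (y 1 * (y 2 * (y 3 * (y 4 * y 5)))) ≠ 1 ∧
      (y 0 * (y 1 * (y 2 * (y 3 * (y 4 * y 5)))) = d ∨ y 0 * (y 1 * (y 2 * (y 3 * (y 4 * y 5)))) = b ∨
        y 0 * (y 1 * (y 2 * (y 3 * (y 4 * y 5)))) = d * b) := by
  classical
  obtain ⟨z, hz, hinj, hc, ez, h1⟩ := P.hexad (S.quot hd) H hω hω3 hσω hθ
  choose y hy eyz using fun i => S.pair_lift hd hb (hz i)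
  have hinj' : Function.Injective y := fun i j e0 => hinj (by rw [← eyz i, ← eyz j, e0])
  have hcomm : ∀ i j, Commute (y i) (y j) := fun i j =>
    (S.qd_comm hd (hy i).1 (hy j).1).1 (by rw [eyz, eyz]; exact hc i j)
  have hl : ∀ w ∈ [y 0, y 1, y 2, y 3, y 4, y 5], w ∈ nb D d := fun w hw => by
    simp only [List.mem_cons, List.not_mem_nil, or_false] at hw
    rcases hw with rfl | rfl | rfl | rfl | rfl | rfl <;> exact (hy _).1
  obtain ⟨hm, hq⟩ := qd_prod (D := D) fun w hw => mem_H (hl w hw)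
  have he : y 0 * (y 1 * (y 2 * (y 3 * (y 4 * y 5)))) = [y 0, y 1, y 2, y 3, y 4, y 5].prod := by simp
  have hne : y 0 * (y 1 * (y 2 * (y 3 * (y 4 * y 5)))) ≠ 1 := fun r0 =>
    S.cls.six_impossible S.prim S.partners (fun w hw => (hl w hw).1)
      (by simp [hinj'.eq_iff]) (by simp [hcomm]) rfl (he ▸ r0)
  refine ⟨y, hinj', hcomm, fun i => ⟨(hy i).1, eyz i ▸ ⟨hz i, _, ez i⟩⟩, hne, ?_⟩
  rw [he] at hne ⊢
  refine (four_cases S hd hb hm ?_).resolve_left hne
  rw [hq]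
  simp only [List.map_cons, List.map_nil, List.prod_cons, List.prod_nil, mul_one, eyz]
  have := P.center_cases (S.quot hd) hP (qd_mem hb) h1
  simpa [el, mul_assoc] using this

end CfsgLib.KnownB.TypeM23
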