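import Cfsg.Agent.Lib.KnownB.TypeM23.Base

/-!
The group of the partners modulo its centre is primitive of type M(22).
-/

set_option autoImplicit false

namespace CfsgLib.KnownB.TypeM23

open Cfsg CfsgLib.Classical.Unitary CfsgLib.ThreeTransp CfsgLib.Involutions
open CfsgLib.KnownB.TypeM22

universe u

variable {H : Type u} [Group H] [Finite H] {E : Set H}

/-- In type M(22) the largest normal 3-subgroup is trivial when the commuting graph is connected. -/
theorem pCore_three_bot (hC : TClass E) (ht : IsOfTypeM22 H E) (hcon : ∀ a ∈ E, ∀ b ∈ E, CReach E a b) :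
    pCore 3 H = ⊥ := by
  haveI : Fact (Nat.Prime 3) := ⟨Nat.prime_three⟩
  have hW : WeakTS E := weakTS_of_group ⟨hC.ts, hC.conj, hC.gen⟩
  obtain ⟨a, ha, b, hb, hab, cab⟩ := pair_of_typeM22 ht
  obtain ⟨hZ, d₁, hd₁, c, -, -, ⟨F, _, _, hF, ⟨e⟩⟩, -⟩ := ht
  have hN := Base.isPGroup_pCore (p := 3) H
  haveI hNn : (pCore 3 H).Normal := inferInstance
  -- the partners of the special member
  have h0 : ∀ n ∈ pCore 3 H, Commute n d₁ → ∀ y ∈ nb E d₁, Commute n y := by
    intro n hn hnd y hy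
    have hy' : n * y * n⁻¹ ∈ nb E d₁ := by
      have := hW.nb_conj n hy
      rwa [conj_eq_of_commute hnd] at this
    obtain ⟨K, hK⟩ : ∃ K, K = (pCore 3 H).subgroupOf (Subgroup.closure (nb E d₁)) := ⟨_, rfl⟩
    haveI : K.Normal := hK ▸ inferInstance
    have hK3 : IsPGroup 3 K := hK ▸ hN.comap_subtype
    obtain ⟨hs, hna, hdvd⟩ := psu_six_simple hF
    obtain ⟨e⟩ : Nonempty ((↥(Subgroup.closure (nb E d₁)) ⧸ Subgroup.center ↥(Subgroup.closure (nb E d₁))) ≃*
        PSU 6 F 2) := ⟨e⟩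
    obtain ⟨φ, hφ⟩ : ∃ φ : Subgroup.closure (nb E d₁) →* PSU 6 F 2,
        φ = e.toMonoidHom.comp (QuotientGroup.mk' _) := ⟨_, rfl⟩
    have hsurj : Function.Surjective φ := hφ ▸ e.surjective.comp (QuotientGroup.mk'_surjective _)
    haveI : (K.map φ).Normal := (inferInstance : K.Normal).map _ hsurj
    have hz : (⟨_, mul_mem (Subgroup.subset_closure hy) (Subgroup.subset_closure hy')⟩ :
        Subgroup.closure (nb E d₁)) ∈ K :=
      hK ▸ Subgroup.mem_subgroupOf.2 (ts_conj_prod_mem hC.ts hy.1 hn)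
    haveI := hs
    rcases hs.eq_bot_or_eq_top_of_normal (K.map φ) inferInstance with r | r
    · have h1 := r ▸ Subgroup.mem_map_of_mem φ hz
      rw [Subgroup.mem_bot, hφ] at h1
      have h2 := (QuotientGroup.eq_one_iff (N := Subgroup.center _) _).1 (e.injective (h1.trans e.map_one.symm))
      have h3 : y * (y * (n * y * n⁻¹)) = y * (n * y * n⁻¹) * y :=
        congrArg Subtype.val (Subgroup.mem_center_iff.1 h2 (el hy))
      rw [hW.mul_mul_self hy.1] at h3
      have hc : Commute y (n * y * n⁻¹) := by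
        show y * (n * y * n⁻¹) = n * y * n⁻¹ * y
        calc y * (n * y * n⁻¹) = y * (n * y * n⁻¹) * y * y := by rw [mul_assoc _ y y, hW.sq y hy.1, mul_one]
          _ = _ := by rw [← h3]
      have h4 := (ts_pow_of_pgroup hC.ts hN hy.1 hy'.1 (ts_conj_prod_mem hC.ts hy.1 hn)).2.1 rfl hc
      exact mul_inv_eq_iff_eq_mul.1 h4.symm
    · exfalso
      obtain ⟨k, hk⟩ := IsPGroup.iff_card.1 (r ▸ hK3.map φ : IsPGroup 3 (⊤ : Subgroup (PSU 6 F 2)))
      rw [Subgroup.card_top] at hk
      rw [hk] at hdvd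
      have := Nat.prime_two.dvd_of_dvd_pow ((dvd_pow_self 2 (by norm_num : (15 : ℕ) ≠ 0)).trans hdvd)
      norm_num at this
  have hstep : ∀ x ∈ E, ∀ y ∈ nb E x, ∀ n ∈ pCore 3 H, Commute n x → Commute n y := by
    intro x hx y hy n hn hnx
    obtain ⟨g, hg⟩ := hC.trans x hx d₁ hd₁
    have h1 := h0 _ (hNn.conj_mem n hn g) (hg ▸ (commute_conj_iff g).2 hnx) _ (hg ▸ hW.nb_conj g hy)
    exact (commute_conj_iff g).1 h1
  have hfree : ∀ x ∈ E, ∀ n ∈ pCore 3 H, Commute n x → n = 1 := by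
    intro x hx n hn hnx
    have hall : ∀ b, CReach E x b → Commute n b := by
      intro b hb
      induction hb with
      | refl => exact hnx
      | @tail u v _ huv ih =>
        rcases eq_or_ne v u with rfl | hne
        · exact ih
        · exact hstep u huv.1 v ⟨huv.2.1, hne, huv.2.2⟩ n hn ih
    have h1 : n ∈ Subgroup.center H := hW.mem_center fun b hb => hall b (hcon x hx b hb)
    rwa [hZ, Subgroup.mem_bot] at h1
  -- every member inverts the core
  have hinv : ∀ x ∈ E, ∀ n ∈ pCore 3 H, x * n * x = n⁻¹ := by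
    intro x hx n hn
    obtain ⟨ψ, hψ⟩ : ∃ ψ : pCore 3 H → pCore 3 H, ∀ m, (ψ m : H) = (m : H) * x * (m : H)⁻¹ * x :=
      ⟨fun m => ⟨(m : H) * x * (m : H)⁻¹ * x, by
        have := mul_mem m.2 (hNn.conj_mem _ (inv_mem m.2) x)
        rwa [hW.inv hx, ← mul_assoc, ← mul_assoc] at this⟩, fun _ => rfl⟩
    have hinj : Function.Injective ψ := fun a b hab => by
      have h1 := congrArg Subtype.val hab
      rw [hψ, hψ] at h1
      have h2 := mul_right_cancel h1
      have h3 := hfree x hx _ (mul_mem (inv_mem b.2) a.2) (by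
        refine mul_inv_eq_iff_eq_mul.1 ?_
        calc (b : H)⁻¹ * a * x * ((b : H)⁻¹ * a)⁻¹ = (b : H)⁻¹ * ((a : H) * x * (a : H)⁻¹) * b := by group
          _ = x := by rw [h2]; group)
      exact Subtype.ext (inv_mul_eq_one.1 h3).symm
    obtain ⟨m, hm⟩ := (Finite.injective_iff_surjective.1 hinj) ⟨n, hn⟩
    have h1 : n = (m : H) * x * (m : H)⁻¹ * x := (congrArg Subtype.val hm).symm.trans (hψ m)
    rw [h1, mul_inv_rev, mul_inv_rev, mul_inv_rev, inv_inv, hW.inv hx]
    simp only [mul_assoc, hW.sq x hx, mul_one]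
  by_contra hne
  have hnc : ¬ pCore 3 H ≤ Subgroup.center H := by rw [hZ]; exact fun h => hne (le_bot_iff.1 h)
  obtain ⟨h2, -, hlay⟩ : pCore 2 H ≤ Subgroup.center H ∧ ¬ pCore 3 H ≤ Subgroup.center H ∧ layer H = ⊥ := by
    rcases hC.trichotomy with ⟨-, h, -⟩ | r | ⟨-, h, -⟩
    · exact absurd h hnc
    · exact r
    · exact absurd h hnc
  have hF : generalizedFittingSubgroup H ≤ pCore 3 H := by
    rw [generalizedFittingSubgroup, hlay, bot_sup_eq, Base.fittingSubgroup_eq_iSup_pCore]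
    refine iSup_le fun p => ?_
    rcases Nat.lt_or_ge 3 (p : ℕ) with h | h
    · exact (hC.pCore_le_center p.2 h).trans (hZ ▸ bot_le)
    · have := p.2.two_le
      obtain hp | hp : (p : ℕ) = 2 ∨ (p : ℕ) = 3 := by omega
      · rw [hp]; exact h2.trans (hZ ▸ bot_le)
      · rw [hp]
  have hcent : a * b ∈ Subgroup.centralizer (generalizedFittingSubgroup H : Set H) :=
    Subgroup.mem_centralizer_iff.2 fun n hn => by
      have h1 := hinv b hb n (hF hn)
      have h2 := hinv a ha _ (inv_mem (hF hn))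
      rw [inv_inv, ← h1] at h2
      calc n * (a * b) = a * (b * n * b) * a * (a * b) := by rw [h2]
        _ = a * b * n := by simp only [mul_assoc]; rw [hW.mul_mul_self ha, hW.sq b hb, mul_one]
  exact hab ((ts_pow_of_pgroup hC.ts hN ha hb (hF (CfsgLib.Components.centralizer_fstar_le hcent))).2.1 rfl cab)

end CfsgLib.KnownB.TypeM23
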